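import Groth.Agent.VBCurve.K705.InvolX
import Groth.Agent.Sga67.LocBasisOps

/-!
# Semistability tested on invariant submodules (helper705)
-/

set_option autoImplicit false
universe u

open CategoryTheory CategoryTheory.Limits AlgebraicGeometry TopologicalSpace Opposite

namespace K705.InvolSS

open Groth.Agent.VarietyA.DegRank K707.Base K707.Deg K707.Slope K707.Semi K705.Setup K705.Invol

variable {k : Type u} [Field k] {X : Scheme.{u}} [X.Over (Spec (CommRingCat.of k))]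
  [IsIntegral X] [IsProper (X ↘ (Spec (CommRingCat.of k)))]

theorem biprod_numbers (C : Crv k X) {F G : X.Modules} (hF : FlatMod.IsFinLocFree F)
    (hG : FlatMod.IsFinLocFree G) :
    FlatMod.IsFinLocFree (F ⊞ G) ∧ rk (F ⊞ G) = rk F + rk G ∧ dg k (F ⊞ G) = dg k F + dg k G := by
  have hS0 : (ShortComplex.mk (biprod.inl : F ⟶ F ⊞ G) (biprod.snd : F ⊞ G ⟶ G) biprod.inl_snd).ShortExact :=
    (ShortComplex.Splitting.ofHasBinaryBiproduct F G).shortExact
  have hv : FlatMod.IsFinLocFree (F ⊞ G) :=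
    Groth.Agent.Sga67.LocBasis.isFinLocFree_of_shortExact hS0 hF hG
  have h1 := rk_add' k _ hS0 (coh_of_vb hv)
  have h2 := dg_add k _ hS0 (coh_of_vb hF) (coh_of_vb hv) (coh_of_vb hG)
  exact ⟨hv, h1, h2⟩

theorem ss_of_inv (C : Crv k X) (S : X.Modules ⥤ X.Modules) [S.Additive] [S.PreservesMonomorphisms]
    [S.PreservesEpimorphisms] (c : S ⋙ S ≅ 𝟭 X.Modules)
    (hS : ∀ M : X.Modules, FlatMod.IsFinLocFree M → dg k (S.obj M) = dg k M ∧ rk (S.obj M) = rk M ∧
      FlatMod.IsFinLocFree (S.obj M))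
    {E : X.Modules} (hE : FlatMod.IsFinLocFree E) (φ : S.obj E ≅ E) (hφ : S.map φ.hom ≫ φ.hom = c.hom.app E)
    (h : ∀ (G : X.Modules) (j : G ⟶ E), Mono j → FlatMod.IsFinLocFree G → Inv S φ j →
      dg k G * rk E ≤ dg k E * rk G) : SS k E := by
  intro F i hi hF
  obtain ⟨d1, d2, hvSF⟩ := hS F hF
  obtain ⟨hvB, b1, b2⟩ := biprod_numbers C hF hvSF
  obtain ⟨B, p, m, hp, hm, hpm, hB, e1, e2, -, -⟩ := exists_factor C (sm S φ i) (coh_of_vb hvB) (coh_of_vb hE)
  have k1 := h B m hm (vb_of_mono C m hB hE) (inv_sum S c φ hφ i p m hpm)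
  have k2 := h (kernel (sm S φ i)) (int S φ i) inferInstance (vb_kernel C _ hvB (coh_of_vb hE))
    (inv_int S c φ hφ i)
  rw [b1, d2] at e1
  rw [b2, d1] at e2
  have e1' : (rk F : ℤ) + rk F = rk (kernel (sm S φ i)) + rk B := by exact_mod_cast e1
  have h3 : (dg k F + dg k F) * rk E ≤ dg k E * (rk F + rk F) := by
    rw [e2, e1', add_mul, mul_add]
    exact add_le_add k2 k1
  linarith

end K705.InvolSS
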