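import Groth.Agent.VBCurve.K705.EvFib
import Groth.Agent.VBCurve.K705.InvolSS
import Groth.Agent.VBCurve.K708.PtTwist
import Groth.Agent.CurvesB.Pairing
import Groth.Agent.Ega2.QCohLocal

/-!
# Sections of vector bundles vanishing at a point, II (helper705)

`k` algebraically closed, `X` an integral proper curve with principal ideal local rings.

* `nonempty_iso_free`: `M` of rank `n` with `h⁰ ≥ n` such that no nonzero section vanishes at a closed point is free;
* `exists_inv_sub`: if `dg W > 0` and `h⁰(W) ≥ rk W > 0` then `W` has an invertible submodule of positive degree.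
-/

set_option autoImplicit false
universe u

open CategoryTheory CategoryTheory.Limits AlgebraicGeometry TopologicalSpace Opposite Module

namespace K705.EvFib2

open Groth.Agent Groth.Agent.VarietyA.DegRank K707.Base K707.Deg K707.Slope K707.Semi K705.InvolSS K705.EvFib
open Groth.Agent.VarietyA.TwistDown Groth.Agent.VarietyA.TwistSeq Groth.Agent.VarietyA
open Groth.Agent.CurvesB.Pairing

variable {k : Type u} [Field k] {X : Scheme.{u}} [X.Over (Spec (CommRingCat.of k))]

/-- The map `O^n → M` given by `n` elements of `H⁰(M)`. -/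
noncomputable def ev (M : X.Modules) {n : ℕ} (b : Fin n → Coh.HH X M 0) : FlatMod.freeMod X n ⟶ M :=
  Sigma.desc (fun i : Fin n => secHom M (sec M (b i)))

omit [X.Over (Spec (CommRingCat.of k))] in
theorem ι_ev (M : X.Modules) {n : ℕ} (b : Fin n → Coh.HH X M 0) (i : Fin n) :
    Sigma.ι (fun _ : Fin n => Coh.structureModule X) i ≫ ev M b = secHom M (sec M (b i)) :=
  Sigma.ι_desc (fun i : Fin n => secHom M (sec M (b i))) i

omit [X.Over (Spec (CommRingCat.of k))] in
/-- `coker (O^n → M)` kills the germs of the chosen sections. -/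
theorem coker_ev_germ (M : X.Modules) {n : ℕ} (b : Fin n → Coh.HH X M 0) (x : X) (i : Fin n) :
    CycB.StalkExact.stalkLin (cokernel.π (ev M b)) x (g0 M x (b i)) = 0 := by
  have h1 : secHom M (sec M (b i)) ≫ cokernel.π (ev M b) = 0 := by
    rw [← ι_ev, Category.assoc, cokernel.condition, comp_zero]
  have h2 : secHom _ ((cokernel.π (ev M b)).app ⊤ (sec M (b i))) = 0 := (secHom_comp _ _).symm.trans h1
  have h3 : (cokernel.π (ev M b)).app ⊤ (sec M (b i)) = 0 :=
    secHom_injective _ (h2.trans (secHom_zero _).symm)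
  exact (CycB.StalkExact.stalkLin_germ (cokernel.π (ev M b)) x (U := ⊤) trivial (sec M (b i))).trans
    ((congrArg _ h3).trans (map_zero _))

theorem coker_ev_germ' (M : X.Modules) {n : ℕ} (b : Module.Basis (Fin n) k (Coh.HH X M 0)) (x : X)
    (s : Coh.HH X M 0) :
    CycB.StalkExact.stalkLin (cokernel.π (ev M b)) x (g0 M x s) = 0 := by
  rw [← b.sum_repr s, map_sum, map_sum]
  refine Finset.sum_eq_zero fun i _ => ?_
  rw [g0_smul, map_smul, coker_ev_germ, smul_zero]

/-- A coherent module on a Noetherian scheme with zero stalks at closed points is zero. -/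
theorem isZero_of_closed {X : Scheme.{u}} [IsNoetherian X] {Q : X.Modules} (hQ : Coh.IsCoh Q)
    (h : ∀ x : X, IsClosed ({x} : Set X) → Subsingleton (Q.presheaf.stalk x)) : IsZero Q := by
  rw [VarietyB.ExactLoc.isZero_iff_stalk]
  intro y
  by_contra hy
  have h1 : IsClosed (CohB1.support Q) := GlobGen.isClosed_support Q hQ.2
  obtain ⟨x, hx, hxc⟩ := IsClosed.exists_closed_singleton h1 ⟨y, hy⟩
  exact hx (h x hxc)

variable [IsIntegral X]

/-- **A module of rank `n` with `h⁰ ≥ n` no section of which vanishes at a closed point is free.** -/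
theorem nonempty_iso_free [IsAlgClosed k] [IsProper (X ↘ (Spec (CommRingCat.of k)))] (C : Crv k X)
    {M : X.Modules} {n : ℕ} (hM : FlatMod.IsFinLocFreeOfRank n M)
    (hn : n ≤ finrank k (Coh.HH X M 0))
    (hinj : ∀ x : X, IsClosed ({x} : Set X) → ∀ s : Coh.HH X M 0, g0 M x s ∈ mStalk M x → s = 0) :
    Nonempty (FlatMod.freeMod X n ≅ M) := by
  have := isNoetherian k (X := X)
  obtain ⟨x₀, hx₀⟩ := K708.PtTwist.exists_closedPoint k (X := X)
  have hr : finrank k (Coh.HH X M 0) = n := (exists_section_sub_mem hM hx₀ hn (hinj x₀ hx₀)).1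
  have hfM := Groth.Agent.S0002.result k X M (isCoh_of_rank hM) 0
  let b : Module.Basis (Fin n) k (Coh.HH X M 0) := Module.finBasisOfFinrankEq k _ hr
  have hfree := Dcoh.FinLocFree.isFinLocFree_freeMod X n
  have hQ : Coh.IsCoh (cokernel (ev M b)) := coh_cokernel _ (coh_of_vb hfree) (isCoh_of_rank hM)
  have hz : IsZero (cokernel (ev M b)) := by
    refine isZero_of_closed hQ fun x hx => ?_
    have hfin := Divis.StalkMod.finite_stalk hQ x
    have h1 : (⊤ : Submodule (X.presheaf.stalk x) ((cokernel (ev M b)).presheaf.stalk x)) ≤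
        IsLocalRing.maximalIdeal (X.presheaf.stalk x) • ⊤ := by
      rintro z -
      obtain ⟨m, rfl⟩ := CycB.StalkExact.stalkLin_surjective (cokernel.π (ev M b)) x z
      obtain ⟨s, hs⟩ := (exists_section_sub_mem hM hx hn (hinj x hx)).2 m
      have h2 : CycB.StalkExact.stalkLin (cokernel.π (ev M b)) x m =
          CycB.StalkExact.stalkLin (cokernel.π (ev M b)) x (m - g0 M x s) := by
        rw [map_sub, coker_ev_germ', sub_zero]
      rw [h2]
      have h3 := Submodule.mem_map_of_mem (f := CycB.StalkExact.stalkLin (cokernel.π (ev M b)) x) hs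
      rw [Submodule.map_smul''] at h3
      exact Submodule.smul_mono le_rfl le_top h3
    have h4 := Submodule.eq_bot_of_le_smul_of_le_jacobson_bot _ ⊤ hfin.fg_top h1
      (IsLocalRing.maximalIdeal_le_jacobson ⊥)
    rw [← Submodule.subsingleton_iff (X.presheaf.stalk x)]
    exact subsingleton_of_bot_eq_top h4.symm
  have hepi : Epi (ev M b) := Preadditive.epi_of_cokernel_zero (hz.eq_of_tgt _ _)
  have e1 := (epi_numbers C (ev M b) (coh_of_vb hfree) (isCoh_of_rank hM)).1
  have hrf : FlatMod.IsFinLocFreeOfRank n (FlatMod.freeMod X n) := fun x =>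
    ⟨⊤, trivial, ⟨(Dcoh.FinLocFree.restrictFree _ n).symm⟩⟩
  rw [rk_of_rank hM, rk_of_rank hrf] at e1
  have hK := vb_kernel C (ev M b) hfree (isCoh_of_rank hM)
  have hKz : IsZero (kernel (ev M b)) := isZero_of_rk_eq_zero C hK (by omega)
  have hmono : Mono (ev M b) := Preadditive.mono_of_kernel_zero (hKz.eq_of_src _ _)
  have : IsIso (ev M b) := isIso_of_mono_of_epi _
  exact ⟨asIso (ev M b)⟩

theorem dg_free [IsProper (X ↘ (Spec (CommRingCat.of k)))] (C : Crv k X) (n : ℕ) :
    dg k (FlatMod.freeMod X n) = 0 := by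
  induction n with
  | zero => exact dg_of_isZero (Dcoh.FinLocFree.isZero_freeMod_zero X)
  | succ n ih =>
    obtain ⟨e⟩ := Dcoh.FinLocFree.nonempty_biprod_freeMod_iso X n 1
    have h1 := (biprod_numbers C (Dcoh.FinLocFree.isFinLocFree_freeMod X n)
      (Dcoh.FinLocFree.isFinLocFree_freeMod X 1)).2.2
    rw [dg_iso k e, ih, ← dg_iso k (Groth.Agent.Ega2.QCohLocal.freeModOneIso X),
      K708.SSH0.dg_structureModule, add_zero] at h1
    exact h1

end K705.EvFib2
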