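import Mathlib.Data.Nat.Factorial.Basic
import Mathlib.Data.Int.LeastGreatest
import Mathlib.Tactic.Linarith
import Mathlib.Tactic.Positivity
import Mathlib.Tactic.Ring
import Mathlib.Tactic.LinearCombination

/-!
# Extremal slopes: an abstract selection lemma (helper705)
-/

set_option autoImplicit false

namespace K705.Extremal

variable {ι : Type*} (ρ : ι → ℕ) (δ : ι → ℤ)

/-- Among objects with rank `1 ≤ ρ ≤ r` and degree bounded above there is one of maximal slope `δ / ρ` which among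
those of the same slope maximizes `ε * ρ` for `ε = 1` or `ε = - 1`. -/
theorem exists_max (r : ℕ) (B : ℤ) (i₀ : ι) (h0 : ∀ i, 0 < ρ i) (h1 : ∀ i, ρ i ≤ r) (h2 : ∀ i, δ i ≤ B)
    (ε : ℤ) (hε : ε = 1 ∨ ε = -1) :
    ∃ m, ∀ i, δ i * ρ m ≤ δ m * ρ i ∧ (δ i * ρ m = δ m * ρ i → ε * ρ i ≤ ε * ρ m) := by
  let N : ι → ℕ := fun i => r.factorial / ρ i
  have hN : ∀ i, (ρ i : ℤ) * N i = r.factorial := fun i => by
    have : ρ i ∣ r.factorial := Nat.dvd_factorial (h0 i) (h1 i)
    exact_mod_cast Nat.mul_div_cancel' this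
  have hr : (0 : ℤ) < r.factorial := by exact_mod_cast r.factorial_pos
  have hNpos : ∀ i, (0 : ℤ) < N i := fun i => by
    have h3 : (0 : ℤ) < ρ i := by exact_mod_cast h0 i
    have h4 := hN i
    by_contra hcon
    have : (N i : ℤ) = 0 := by
      have : (0 : ℤ) ≤ N i := by positivity
      omega
    rw [this, mul_zero] at h4
    omega
  have hNle : ∀ i, (N i : ℤ) ≤ r.factorial := fun i => by
    have h3 : (1 : ℤ) ≤ ρ i := by exact_mod_cast h0 i
    have h4 := hN i
    nlinarith [hNpos i]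
  let f : ι → ℤ := fun i => δ i * N i * (r + 1) + ε * ρ i
  have hbdd : ∀ i, f i ≤ |B| * r.factorial * (r + 1) + r := fun i => by
    have h3 : δ i * N i ≤ |B| * r.factorial := by
      calc δ i * N i ≤ |B| * N i := mul_le_mul_of_nonneg_right ((h2 i).trans (le_abs_self B)) (hNpos i).le
        _ ≤ |B| * r.factorial := mul_le_mul_of_nonneg_left (hNle i) (abs_nonneg B)
    have h4 : δ i * N i * (r + 1) ≤ |B| * r.factorial * (r + 1) :=
      mul_le_mul_of_nonneg_right h3 (by positivity)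
    have h5 : ε * ρ i ≤ r := by
      have h6 : (ρ i : ℤ) ≤ r := by exact_mod_cast h1 i
      have h7 : (0 : ℤ) ≤ ρ i := by positivity
      rcases hε with rfl | rfl <;> linarith
    simp only [f]
    linarith
  obtain ⟨M, ⟨m, hm⟩, hmax⟩ := Int.exists_greatest_of_bdd (P := fun z => ∃ i, f i = z)
    ⟨_, fun z ⟨i, hi⟩ => hi ▸ hbdd i⟩ ⟨f i₀, i₀, rfl⟩
  refine ⟨m, fun i => ?_⟩
  have h3 : f i ≤ f m := by rw [hm]; exact hmax _ ⟨i, rfl⟩
  simp only [f] at h3
  have e1 : (1 : ℤ) ≤ ρ i := by exact_mod_cast h0 i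
  have e2 : (ρ i : ℤ) ≤ r := by exact_mod_cast h1 i
  have e3 : (1 : ℤ) ≤ ρ m := by exact_mod_cast h0 m
  have e4 : (ρ m : ℤ) ≤ r := by exact_mod_cast h1 m
  have e5 : δ i * N i ≤ δ m * N m := by
    by_contra hcon
    have h4 : δ m * N m + 1 ≤ δ i * N i := by omega
    have h5 : (δ m * N m + 1) * (r + 1) ≤ δ i * N i * ((r : ℤ) + 1) :=
      mul_le_mul_of_nonneg_right h4 (by positivity)
    rcases hε with rfl | rfl <;> linarith
  -- convert to cross-multiplied form
  have e6 : (δ m * ρ i - δ i * ρ m) * r.factorial = (δ m * N m - δ i * N i) * (ρ i * ρ m) := by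
    linear_combination (- δ m * ρ i) * hN m + (δ i * ρ m) * hN i
  refine ⟨?_, fun h => ?_⟩
  · have h4 : (0 : ℤ) ≤ (δ m * ρ i - δ i * ρ m) * r.factorial := by
      rw [e6]
      exact mul_nonneg (by linarith) (by positivity)
    have := nonneg_of_mul_nonneg_left h4 hr
    linarith
  · have h4 : (δ m * N m - δ i * N i) * (ρ i * ρ m) = 0 := by
      rw [← e6, h]; ring
    have h5 : δ m * N m - δ i * N i = 0 := by
      rcases mul_eq_zero.mp h4 with h | h
      · exact h
      · exfalso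
        rcases mul_eq_zero.mp h with h | h <;> omega
    have h6 : δ i * N i * ((r : ℤ) + 1) = δ m * N m * (r + 1) := by
      rw [sub_eq_zero.mp h5]
    linarith

end K705.Extremal
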