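import Groth.Agent.VBCurve.K707.Semi
import Groth.Agent.VBCurve.K705.Extremal
import Groth.Agent.VarietyA.TorsionVanish
import Groth.Agent.Ega1.GenPts
import Groth.Agent.CalgC.RegLocal
import Mathlib.AlgebraicGeometry.Geometrically.Connected

/-!
# Setup: smooth geometrically connected curves are integral; boundedness of degrees of submodules;
maximal slope submodules (helper705)

* `isIntegral_of_geomConn`: a smooth geometrically connected scheme over a field is integral;
* `dg_le_bound`: degrees of coherent submodules of `E` are bounded above by `h^0(E) + rk E |χ(O)|`;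
* `exists_maxSlope`: maximal slope, then extremal rank (`ε = 1`: largest, `ε = -1`: smallest);
* `stI_iff`: `St` in terms of the non-isomorphic submodules;
* `ss_ext`, `ss_left`, `ss_right`: semistability in extensions of equal slopes.
-/

set_option autoImplicit false
universe u

open CategoryTheory CategoryTheory.Limits AlgebraicGeometry TopologicalSpace Opposite

namespace K705.Setup

open Groth.Agent.VarietyA.DegRank K707.Base K707.Deg K707.Slope K707.Semi

/-- A smooth geometrically connected scheme over a field is integral. -/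
theorem isIntegral_of_geomConn (k : Type u) [Field k] (X : Scheme.{u}) [X.Over (Spec (CommRingCat.of k))]
    [Smooth (X ↘ Spec (CommRingCat.of k))] [GeometricallyConnected (X ↘ Spec (CommRingCat.of k))] :
    IsIntegral X := by
  have : IsLocallyNoetherian X := LocallyOfFiniteType.isLocallyNoetherian (X ↘ Spec (CommRingCat.of k))
  have : ConnectedSpace X :=
    GeometricallyConnected.connectedSpace_of_subsingleton (f := X ↘ Spec (CommRingCat.of k))
  refine (Groth.Agent.Ega1.GenPts.isIntegral_iff X).mpr ⟨inferInstance, fun x => ?_⟩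
  have := Groth.Agent.S1535.result k X x
  exact Groth.Agent.CalgC.RegLocal.isDomain _

section

variable {k : Type u} [Field k] {X : Scheme.{u}} [X.Over (Spec (CommRingCat.of k))]
  [IsIntegral X] [IsProper (X ↘ (Spec (CommRingCat.of k)))]

/-- `h⁰` of a submodule. -/
theorem h0_le_of_mono {G E : X.Modules} (i : G ⟶ E) [Mono i] (hE : Coh.IsCoh E) :
    Module.finrank k (Coh.HH X G 0) ≤ Module.finrank k (Coh.HH X E 0) := by
  have := Groth.Agent.S0002.result k X E hE 0
  rw [Groth.Agent.VarietyA.EulerAdd.finrank_eq₀ k _ (cokernel_shortExact i)]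
  exact Submodule.finrank_le _

/-- `χ(F) = h⁰(F) - h¹(F)`. -/
theorem euler_eq (C : Crv k X) (F : X.Modules) :
    Curv2.euler k X F = (Module.finrank k (Coh.HH X F 0) : ℤ) - Module.finrank k (Coh.HH X F 1) := by
  have := isNoetherian k (X := X)
  have h : Curv2.euler k X F = ∑ i ∈ Finset.range 2, (-1 : ℤ) ^ i * (Module.finrank k (Coh.HH X F i) : ℤ) := by
    refine finsum_eq_sum_of_support_subset _ fun i hi => ?_
    simp only [Finset.coe_range, Set.mem_Iio]
    by_contra hN
    have := Groth.Agent.VarietyA.TorsionVanish.subsingleton_of_two_le C.dim.le F i (not_lt.mp hN)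
    exact hi (by simp [Module.finrank_zero_of_subsingleton])
  rw [h, Finset.sum_range_succ, Finset.sum_range_one]
  ring

/-- Degrees of submodules are bounded above. -/
theorem dg_le_bound (C : Crv k X) {G E : X.Modules} (i : G ⟶ E) [Mono i] (hG : Coh.IsCoh G)
    (hE : Coh.IsCoh E) :
    dg k G ≤ Module.finrank k (Coh.HH X E 0) + rk E * |Curv2.euler k X (Coh.structureModule X)| := by
  have h1 := euler_eq_dg k G
  have h2 := euler_eq C G
  have h3 : (Module.finrank k (Coh.HH X G 0) : ℤ) ≤ Module.finrank k (Coh.HH X E 0) := by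
    exact_mod_cast h0_le_of_mono i hE
  have h4 : (0 : ℤ) ≤ Module.finrank k (Coh.HH X G 1) := by positivity
  have h5 : (rk G : ℤ) ≤ rk E := by exact_mod_cast rk_le_of_mono C i hG hE
  have h6 : -((rk G : ℤ) * Curv2.euler k X (Coh.structureModule X)) ≤
      rk E * |Curv2.euler k X (Coh.structureModule X)| := by
    calc -((rk G : ℤ) * Curv2.euler k X (Coh.structureModule X))
        = rk G * (-Curv2.euler k X (Coh.structureModule X)) := by ring
      _ ≤ rk G * |Curv2.euler k X (Coh.structureModule X)| :=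
          mul_le_mul_of_nonneg_left (neg_le_abs _) (by positivity)
      _ ≤ rk E * |Curv2.euler k X (Coh.structureModule X)| :=
          mul_le_mul_of_nonneg_right h5 (abs_nonneg _)
  linarith

/-- There is a locally free submodule of positive rank, of maximal slope, and of extremal rank among these. -/
theorem exists_maxSlope (C : Crv k X) {E : X.Modules} (hE : FlatMod.IsFinLocFree E) (h0 : 0 < rk E)
    (ε : ℤ) (hε : ε = 1 ∨ ε = -1) :
    ∃ (G : X.Modules) (i : G ⟶ E), Mono i ∧ FlatMod.IsFinLocFree G ∧ 0 < rk G ∧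
      ∀ (F : X.Modules) (j : F ⟶ E), Mono j → FlatMod.IsFinLocFree F → 0 < rk F →
        dg k F * rk G ≤ dg k G * rk F ∧ (dg k F * rk G = dg k G * rk F → ε * rk F ≤ ε * rk G) := by
  let ι := {p : Σ G : X.Modules, (G ⟶ E) // Mono p.2 ∧ FlatMod.IsFinLocFree p.1 ∧ 0 < rk p.1}
  obtain ⟨m, hm⟩ := Extremal.exists_max (ι := ι) (fun p => rk p.1.1) (fun p => dg k p.1.1) (rk E)
    (Module.finrank k (Coh.HH X E 0) + rk E * |Curv2.euler k X (Coh.structureModule X)|)
    ⟨⟨E, 𝟙 E⟩, inferInstanceAs (Mono (𝟙 E)), hE, h0⟩ (fun p => p.2.2.2)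
    (fun p => by
      have := p.2.1
      exact rk_le_of_mono C p.1.2 (coh_of_vb p.2.2.1) (coh_of_vb hE))
    (fun p => by
      have := p.2.1
      exact dg_le_bound C p.1.2 (coh_of_vb p.2.2.1) (coh_of_vb hE)) ε hε
  exact ⟨m.1.1, m.1.2, m.2.1, m.2.2.1, m.2.2.2, fun F j hj hF hF0 => hm ⟨⟨F, j⟩, hj, hF, hF0⟩⟩

/-- `St` through non-isomorphic submodules. -/
theorem stI_iff (C : Crv k X) {E : X.Modules} {r : ℕ} (hr : 0 < r) (hE : FlatMod.IsFinLocFreeOfRank r E) :
    St k E ↔ ∀ (G : X.Modules) (r' : ℕ) (i : G ⟶ E), Mono i → 0 < r' → FlatMod.IsFinLocFreeOfRank r' G →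
      (¬ IsIso i) → Curv2.deg k X G r' * (r : ℤ) < Curv2.deg k X E r * (r' : ℤ) := by
  constructor
  · intro h G r' i hi h0 hG hiso
    have hGv := isFinLocFree_of_rank hG
    have hEv := isFinLocFree_of_rank hE
    have hle := rk_le_of_mono C i (coh_of_vb hGv) (coh_of_vb hEv)
    have e1 := rk_of_rank hG
    have e2 := rk_of_rank hE
    rw [← dg_of_rank k hG, ← dg_of_rank k hE]
    rcases hle.lt_or_eq with h1 | h1
    · have := h G i hi hGv (by omega) h1
      rwa [e1, e2] at this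
    · have h2 : dg k G < dg k E := by
        by_contra hcon
        exact hiso (isIso_of_mono C i (coh_of_vb hGv) (coh_of_vb hEv) h1.ge (not_lt.mp hcon))
      have h3 : r' = r := by omega
      rw [h3]
      exact mul_lt_mul_of_pos_right h2 (by exact_mod_cast hr)
  · intro h F i hi hF h0 h1
    have hF' := isFinLocFreeOfRank_rk hF
    have hiso : ¬ IsIso i := fun _ => by
      have := rk_iso (asIso i)
      omega
    have := h F (rk F) i hi h0 hF' hiso
    rwa [← dg_of_rank k hF', ← dg_of_rank k hE, ← rk_of_rank hE] at this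

section ext

variable (C : Crv k X) (T : ShortComplex X.Modules) (hT : T.ShortExact)
  (h₁ : FlatMod.IsFinLocFree T.X₁) (h₂ : FlatMod.IsFinLocFree T.X₂) (h₃ : FlatMod.IsFinLocFree T.X₃)

include C hT h₂

/-- Sub of equal slope of a semistable module. -/
theorem ss_left (hpos : 0 < rk T.X₂)
    (hμ : dg k T.X₁ * rk T.X₂ = dg k T.X₂ * rk T.X₁) (h : SS k T.X₂) : SS k T.X₁ := by
  have := hT.mono_f
  intro G i hi hG
  have h1 := h G (i ≫ T.f) (mono_comp _ _) hG
  have hpos' : (0 : ℤ) < rk T.X₂ := by exact_mod_cast hpos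
  have h2 : dg k G * rk T.X₁ * rk T.X₂ ≤ dg k T.X₁ * rk G * rk T.X₂ := by
    calc dg k G * rk T.X₁ * rk T.X₂ = (dg k G * rk T.X₂) * rk T.X₁ := by ring
      _ ≤ (dg k T.X₂ * rk G) * rk T.X₁ := mul_le_mul_of_nonneg_right h1 (by positivity)
      _ = (dg k T.X₂ * rk T.X₁) * rk G := by ring
      _ = dg k T.X₁ * rk G * rk T.X₂ := by rw [← hμ]; ring
  exact le_of_mul_le_mul_right h2 hpos'

include h₃ in
/-- Quotient of equal slope of a semistable module. -/
theorem ss_right (hpos : 0 < rk T.X₂)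
    (hμ : dg k T.X₃ * rk T.X₂ = dg k T.X₂ * rk T.X₃) (h : SS k T.X₂) : SS k T.X₃ := by
  have := hT.epi_g
  refine ss_of_quot C h₃ fun Q p hp hQ => ?_
  have h1 := h.quot C h₂ (T.g ≫ p) (coh_of_vb hQ)
  have hpos' : (0 : ℤ) < rk T.X₂ := by exact_mod_cast hpos
  have h2 : dg k T.X₃ * rk Q * rk T.X₂ ≤ dg k Q * rk T.X₃ * rk T.X₂ := by
    calc dg k T.X₃ * rk Q * rk T.X₂ = (dg k T.X₃ * rk T.X₂) * rk Q := by ring
      _ = (dg k T.X₂ * rk Q) * rk T.X₃ := by rw [hμ]; ring
      _ ≤ (dg k Q * rk T.X₂) * rk T.X₃ := mul_le_mul_of_nonneg_right h1 (by positivity)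
      _ = dg k Q * rk T.X₃ * rk T.X₂ := by ring
  exact le_of_mul_le_mul_right h2 hpos'

include h₁ h₃ in
/-- Extensions of semistable modules of the same slope are semistable. -/
theorem ss_ext (hpos₁ : 0 < rk T.X₁) (hpos₃ : 0 < rk T.X₃)
    (hμ₁ : dg k T.X₁ * rk T.X₂ = dg k T.X₂ * rk T.X₁) (hμ₃ : dg k T.X₃ * rk T.X₂ = dg k T.X₂ * rk T.X₃)
    (hs₁ : SS k T.X₁) (hs₃ : SS k T.X₃) : SS k T.X₂ := by
  have := hT.mono_f
  intro G i hi hG
  -- `0 → K → G → I → 0`
  obtain ⟨I, p, j, hp, hj, hpj, hI, e1, e2, -, -⟩ := exists_factor C (i ≫ T.g) (coh_of_vb hG) (coh_of_vb h₃)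
  have hIv : FlatMod.IsFinLocFree I := vb_of_mono C j hI h₃
  have hKv := vb_kernel C (i ≫ T.g) hG (coh_of_vb h₃)
  have w : (kernel.ι (i ≫ T.g) ≫ i) ≫ T.g = 0 := by rw [Category.assoc, kernel.condition]
  let κ : kernel (i ≫ T.g) ⟶ T.X₁ := hT.fIsKernel.lift (KernelFork.ofι _ w)
  have hκ : κ ≫ T.f = kernel.ι (i ≫ T.g) ≫ i := hT.fIsKernel.fac _ WalkingParallelPair.zero
  have hκm : Mono κ := by
    have : Mono (κ ≫ T.f) := by rw [hκ]; exact mono_comp _ _
    exact mono_of_mono κ T.f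
  have a1 := hs₁ _ κ hκm hKv
  have a2 := hs₃ I j hj hIv
  have p1 : (0 : ℤ) < rk T.X₁ := by exact_mod_cast hpos₁
  have p3 : (0 : ℤ) < rk T.X₃ := by exact_mod_cast hpos₃
  have b1 : dg k (kernel (i ≫ T.g)) * rk T.X₂ ≤ dg k T.X₂ * rk (kernel (i ≫ T.g)) := by
    refine le_of_mul_le_mul_right ?_ p1
    calc dg k (kernel (i ≫ T.g)) * rk T.X₂ * rk T.X₁ = (dg k (kernel (i ≫ T.g)) * rk T.X₁) * rk T.X₂ := by ring
      _ ≤ (dg k T.X₁ * rk (kernel (i ≫ T.g))) * rk T.X₂ := mul_le_mul_of_nonneg_right a1 (by positivity)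
      _ = (dg k T.X₁ * rk T.X₂) * rk (kernel (i ≫ T.g)) := by ring
      _ = dg k T.X₂ * rk (kernel (i ≫ T.g)) * rk T.X₁ := by rw [hμ₁]; ring
  have b3 : dg k I * rk T.X₂ ≤ dg k T.X₂ * rk I := by
    refine le_of_mul_le_mul_right ?_ p3
    calc dg k I * rk T.X₂ * rk T.X₃ = (dg k I * rk T.X₃) * rk T.X₂ := by ring
      _ ≤ (dg k T.X₃ * rk I) * rk T.X₂ := mul_le_mul_of_nonneg_right a2 (by positivity)
      _ = (dg k T.X₃ * rk T.X₂) * rk I := by ring
      _ = dg k T.X₂ * rk I * rk T.X₃ := by rw [hμ₃]; ring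
  have e1' : (rk G : ℤ) = rk (kernel (i ≫ T.g)) + rk I := by exact_mod_cast e1
  rw [e1', e2]
  linarith

end ext

end

end K705.Setup
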