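import Groth.Agent.VBCurve.K705.EvFib2
import Groth.Agent.CycB.PushStalk

/-!
# Invertible submodules of positive degree (helper705)

`exists_inv_sub`: over an algebraically closed field, if `dg W > 0` and `h⁰(W) ≥ rk W > 0` then there is a nonzero map
`L → W` with `L` invertible of positive degree.
-/

set_option autoImplicit false
universe u

open CategoryTheory CategoryTheory.Limits AlgebraicGeometry TopologicalSpace Opposite Module

namespace K705.InvSub

open Groth.Agent Groth.Agent.VarietyA.DegRank K707.Base K707.Deg K707.Slope K707.Semi K705.EvFib K705.EvFib2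
open Groth.Agent.VarietyA.TwistDown Groth.Agent.CurvesB.Pairing Groth.Agent.CycB.StalkExact Groth.Agent.VarietyA

/-- A split injection does not send a vector outside `I M` into `I N`. -/
theorem mem_smul_of_split {R : Type*} [CommRing R] {M N : Type*} [AddCommGroup M] [AddCommGroup N] [Module R M]
    [Module R N] (I : Ideal R) (j : M →ₗ[R] N) (l : N →ₗ[R] M) (h : l ∘ₗ j = LinearMap.id) (e : M)
    (he : j e ∈ I • (⊤ : Submodule R N)) : e ∈ I • (⊤ : Submodule R M) := by
  have h1 := Submodule.mem_map_of_mem (f := l) he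
  rw [Submodule.map_smul''] at h1
  have h2 : l (j e) = e := LinearMap.congr_fun h e
  rw [h2] at h1
  exact Submodule.smul_mono le_rfl le_top h1

/-- the germ of `1` in the stalk of the structure module -/
theorem unit_not_mem (X : Scheme.{u}) (x : X) :
    (Coh.structureModule X).presheaf.germ ⊤ x trivial (1 : Γ(X, ⊤)) ∉ mStalk (Coh.structureModule X) x := by
  intro h
  have h1 : CycB.PushStalk.unitStalk X x 1 =
      (Coh.structureModule X).presheaf.germ ⊤ x trivial (1 : Γ(X, ⊤)) := by
    have := CycB.PushStalk.unitStalkLin_germ x (⊤ : X.Opens) trivial (1 : Γ(X, ⊤))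
    rw [map_one] at this
    exact this
  rw [← h1] at h
  have h2 := Submodule.mem_map_of_mem (f := (CycB.PushStalk.unitStalk X x).symm.toLinearMap) h
  rw [Submodule.map_smul''] at h2
  have h3 : (CycB.PushStalk.unitStalk X x).symm.toLinearMap (CycB.PushStalk.unitStalk X x 1) = 1 :=
    (CycB.PushStalk.unitStalk X x).symm_apply_apply 1
  rw [h3] at h2
  have h4 : (1 : X.presheaf.stalk x) ∈ IsLocalRing.maximalIdeal (X.presheaf.stalk x) •
      (⊤ : Submodule (X.presheaf.stalk x) (X.presheaf.stalk x)) := Submodule.smul_mono le_rfl le_top h2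
  rw [smul_eq_mul, Ideal.mul_top] at h4
  exact (Ideal.ne_top_iff_one _).mp (IsLocalRing.maximalIdeal.isMaximal _).ne_top h4

variable {k : Type u} [Field k] {X : Scheme.{u}} [X.Over (Spec (CommRingCat.of k))] [IsIntegral X]
  [IsProper (X ↘ (Spec (CommRingCat.of k)))]

/-- A section of `W` generating a saturated submodule vanishes nowhere. -/
theorem not_mem_of_saturated {W G' Q : X.Modules} (a : Coh.structureModule X ⟶ G') [IsIso a] (j : G' ⟶ W)
    (q : W ⟶ Q) (w : j ≫ q = 0) (hS : (ShortComplex.mk j q w).ShortExact) (hQ : FlatMod.IsFinLocFree Q) (x : X) :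
    stalkLin (a ≫ j) x ((Coh.structureModule X).presheaf.germ ⊤ x trivial (1 : Γ(X, ⊤))) ∉ mStalk W x := by
  intro h
  obtain ⟨h1, h2, h3⟩ := stalkLin_shortExact _ hS x
  have hf : Module.Free (X.presheaf.stalk x) (Q.presheaf.stalk x) :=
    free_stalk (isFinLocFreeOfRank_rk hQ) x
  obtain ⟨σ, hσ⟩ := Module.projective_lifting_property (stalkLin q x) LinearMap.id h3
  have htf := (Function.Exact.split_tfae h2 h1 h3).out 0 1
  obtain ⟨l, hl⟩ := htf.mp ⟨σ, hσ⟩
  have e := mem_smul_of_split _ (stalkLin (a ≫ j) x) (stalkLin (inv a) x ∘ₗ l) ?_ _ h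
  · exact unit_not_mem X x e
  · have h4 : stalkLin (a ≫ j) x = stalkLin j x ∘ₗ stalkLin a x := stalkLin_comp a j x
    have h5 : stalkLin (a ≫ inv a) x = stalkLin (inv a) x ∘ₗ stalkLin a x := stalkLin_comp a (inv a) x
    rw [IsIso.hom_inv_id, stalkLin_id] at h5
    rw [h4, LinearMap.comp_assoc, ← LinearMap.comp_assoc (stalkLin a x) (stalkLin j x) l]
    have h6 : l ∘ₗ stalkLin j x = LinearMap.id := hl
    rw [h6, LinearMap.id_comp, ← h5]

/-- **Invertible submodules of positive degree.** -/
theorem exists_inv_sub [IsAlgClosed k] (C : Crv k X) {W : X.Modules} (hW : FlatMod.IsFinLocFree W)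
    (hd : dg k W ≠ 0) (hh : rk W ≤ finrank k (Coh.HH X W 0)) :
    ∃ (L : X.Modules) (f : L ⟶ W), PicF.IsInvertible L ∧ f ≠ 0 ∧ 0 < dg k L := by
  by_contra hcon
  push Not at hcon
  apply hd
  have hr := isFinLocFreeOfRank_rk hW
  suffices hinj : ∀ x : X, IsClosed ({x} : Set X) → ∀ s : Coh.HH X W 0, g0 W x s ∈ mStalk W x → s = 0 by
    obtain ⟨e⟩ := nonempty_iso_free C hr hh hinj
    rw [← dg_iso k e, dg_free C]
  intro x hx s hs
  by_contra hs0
  have hsec : sec W s ≠ 0 := fun h => hs0 ((H0Equiv.hZeroEquiv W).injective (h.trans (map_zero _).symm))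
  have hf0 : secHom W (sec W s) ≠ 0 := secHom_ne_zero hsec
  have hmono := K708.SSH0.mono_of_rank_one C K708.SSH0.rank_structureModule hW _ hf0
  obtain ⟨G', Q, a, j, q, w, ha, haj, hS, hG', hQ, e1, e2, e3, e4⟩ :=
    exists_saturation C (secHom W (sec W s)) (isCoh_of_rank K708.SSH0.rank_structureModule) (coh_of_vb hW)
  have hjm : Mono j := hS.mono_f
  have hvG := vb_of_mono C j hG' hW
  rw [K708.SSH0.rk_structureModule] at e1
  have hinv : PicF.IsInvertible G' := by
    rw [← K707.TensL.rank_one_iff, ← e1]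
    exact isFinLocFreeOfRank_rk hvG
  have hj0 : j ≠ 0 := by
    rintro rfl
    exact hf0 (by rw [← haj, comp_zero])
  have hdG := hcon G' j hinv hj0
  have haiso : IsIso a := isIso_of_mono C a (isCoh_of_rank K708.SSH0.rank_structureModule) hG'
    (by rw [e1, K708.SSH0.rk_structureModule]) (by rw [K708.SSH0.dg_structureModule]; exact hdG)
  refine not_mem_of_saturated a j q w hS hQ x ?_
  rw [haj]
  have h5 : stalkLin (secHom W (sec W s)) x ((Coh.structureModule X).presheaf.germ ⊤ x trivial (1 : Γ(X, ⊤))) =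
      g0 W x s := by
    refine (stalkLin_germ (secHom W (sec W s)) x (U := ⊤) trivial _).trans ?_
    exact congrArg _ (homSec_secHom W (sec W s))
  rw [h5]
  exact hs

end K705.InvSub
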