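import Groth.Agent.Dcoh.ProjFLF
import Groth.Agent.LoccohB.GammaD
import Groth.Agent.CohtopA.ExtAdj
import Groth.Agent.Etcore.Yext

/-!
# `Ext¹(E, F) = H¹(X, F ⊗ E^∨)` for a finite locally free module `E`

* `nonempty_ext_equiv`: `Ext^1(E, F) ≃+ H^1(X, F ⊗ E')` for an exact pairing `E, E'`;
* `exists_section_of_h1`: extensions of `E` by `F` split when `H^1(X, F ⊗ E') = 0`;
* `exists_nonsplit`: otherwise there is a non-split extension.
-/

set_option autoImplicit false
universe w u

open CategoryTheory CategoryTheory.Limits MonoidalCategory AlgebraicGeometry CategoryTheory.Abelian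

namespace K705.ExtH1

section Abs

variable {C : Type*} [Category* C] [Abelian C] [HasExt.{w} C]

/-- `Ext` along an isomorphism of the first variable. -/
noncomputable def extCongrLeft {A B : C} (e : A ≅ B) (Y : C) (n : ℕ) : Ext A Y n ≃+ Ext B Y n where
  toFun x := (Ext.mk₀ e.inv).comp x (zero_add n)
  invFun x := (Ext.mk₀ e.hom).comp x (zero_add n)
  left_inv x := by
    dsimp only
    rw [Ext.mk₀_comp_mk₀_assoc, e.hom_inv_id, Ext.mk₀_id_comp]
  right_inv x := by
    dsimp only
    rw [Ext.mk₀_comp_mk₀_assoc, e.inv_hom_id, Ext.mk₀_id_comp]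
  map_add' x y := by rw [Ext.comp_add]

/-- Extensions split when `Ext¹` vanishes. -/
theorem exists_section (T : ShortComplex C) (hT : T.ShortExact) (h : Subsingleton (Ext T.X₃ T.X₁ 1)) :
    ∃ s : T.X₃ ⟶ T.X₂, s ≫ T.g = 𝟙 _ := by
  obtain ⟨x, hx⟩ := Ext.covariant_sequence_exact₃ T.X₃ hT (Ext.mk₀ (𝟙 T.X₃)) (zero_add 1)
    (Subsingleton.elim _ _)
  obtain ⟨s, rfl⟩ := (Ext.mk₀_bijective _ _).surjective x
  refine ⟨s, (Ext.mk₀_bijective _ _).injective ?_⟩
  rw [← hx, Ext.mk₀_comp_mk₀]

/-- A non-split extension exists when `Ext¹` does not vanish. -/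
theorem exists_nonsplit_of_ext [EnoughInjectives C] (A B : C) (h : ¬ Subsingleton (Ext A B 1)) :
    ∃ (M : C) (i : B ⟶ M) (p : M ⟶ A) (w : i ≫ p = 0), (ShortComplex.mk i p w).ShortExact ∧
      ¬ ∃ s : A ⟶ M, s ≫ p = 𝟙 A := by
  rw [not_subsingleton_iff_nontrivial] at h
  obtain ⟨x, hx⟩ := exists_ne (0 : Ext.{w} A B 1)
  obtain ⟨M, i, p, w, hS, hx'⟩ := Groth.Agent.Etcore.Yext.exists_extClass x
  refine ⟨M, i, p, w, hS, fun hs => hx ?_⟩
  rw [← hx']
  exact (Groth.Agent.Etcore.Yext.extClass_eq_zero_iff hS).2 hs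

end Abs

open scoped Groth.Agent.Dcoh.MonCat
open Groth.Agent.Dcoh Groth.Agent.CohtopA

variable {X : Scheme.{u}}

section

/-- Tensoring on the right with the dual of a dualizable module is exact. -/
theorem preservesFinite_tensorRight' (A A' : X.Modules) [ExactPairing A A'] :
    PreservesLimits (tensorRight A') ∧ PreservesColimits (tensorRight A') := by
  have h1 : (tensorRight A').IsRightAdjoint := (tensorRightAdjunction A A').isRightAdjoint
  have h2 : (tensorRight A').IsLeftAdjoint := DualFLF.isLeftAdjoint_tensorRight A'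
  exact ⟨(Adjunction.ofIsRightAdjoint (tensorRight A')).rightAdjoint_preservesLimits,
    (Adjunction.ofIsLeftAdjoint (tensorRight A')).leftAdjoint_preservesColimits⟩

/-- Tensoring on the right with a dualizable module is exact. -/
theorem preservesFinite_tensorRight (A A' : X.Modules) [ExactPairing A A'] :
    PreservesLimits (tensorRight A) ∧ PreservesColimits (tensorRight A) := by
  let _ := BraidedCategory.exactPairing_swap A A'
  exact preservesFinite_tensorRight' A' A

instance additive_tensorRight (B : X.Modules) : (tensorRight B).Additive := by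
  have : PreservesColimits (tensorRight B) :=
    inferInstanceAs (PreservesColimits (DCoh.tensorBi.flip.obj B))
  have : PreservesBinaryBiproducts (tensorRight B) :=
    preservesBinaryBiproducts_of_preservesBinaryCoproducts _
  exact Functor.additive_of_preservesBinaryBiproducts _

variable (A A' : X.Modules) [ExactPairing A A']

/-- The key bijection in degree one. -/
theorem extAdj_one_bijective [HasExt.{w} X.Modules] (B : X.Modules) :
    ∃ φ : Ext (𝟙_ X.Modules) (B ⊗ A') 1 →+ Ext (𝟙_ X.Modules ⊗ A) B 1, Function.Bijective φ := by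
  obtain ⟨_, _⟩ := preservesFinite_tensorRight A A'
  obtain ⟨_, _⟩ := preservesFinite_tensorRight' A A'
  have := KFlatMod.isGrothendieckAbelian X
  let I : InjectivePresentation B := Classical.arbitrary _
  let S := ShortComplex.mk _ _ (cokernel.condition I.f)
  have : Injective S.X₂ := I.injective
  have hS : S.ShortExact := { exact := ShortComplex.exact_cokernel I.f }
  refine ⟨ExtAdj.extAdj (tensorRightAdjunction A A') (𝟙_ X.Modules) B 1, ?_⟩
  exact ExtAdj.extAdj_succ_bijective_of_shortExact (tensorRightAdjunction A A') hS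
    (hS.map_of_exact (tensorRight A')) (𝟙_ X.Modules) 0
    (ExtAdj.extAdj_zero_bijective _ _ _) (ExtAdj.extAdj_zero_bijective _ _ _).surjective

/-- `Ext^1(A, B) ≃+ H^1(X, B ⊗ A')`. -/
theorem nonempty_ext_equiv [HasExt.{w} X.Modules] (B : X.Modules) :
    Nonempty (Ext A B 1 ≃+ Coh.HH X (CohB1.tensorMod B A') 1) := by
  obtain ⟨φ, hφ⟩ := extAdj_one_bijective A A' B
  exact ⟨((extCongrLeft (λ_ A) B 1).symm.trans (AddEquiv.ofBijective φ hφ).symm).trans
    (Groth.Agent.LoccohB.GammaD.extEquiv (CohB1.tensorMod B A') 1)⟩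

/-- Extensions of `A` by `B` split if `H^1(X, B ⊗ A') = 0`. -/
theorem exists_section_of_h1 (T : ShortComplex X.Modules) (hT : T.ShortExact) (A' : X.Modules)
    [ExactPairing T.X₃ A'] (h : Subsingleton (Coh.HH X (CohB1.tensorMod T.X₁ A') 1)) :
    ∃ s : T.X₃ ⟶ T.X₂, s ≫ T.g = 𝟙 _ := by
  have := HasExt.standard X.Modules
  obtain ⟨e⟩ := nonempty_ext_equiv T.X₃ A' T.X₁
  exact exists_section T hT e.toEquiv.subsingleton

/-- There is a non-split extension of `A` by `B` if `H^1(X, B ⊗ A') ≠ 0`. -/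
theorem exists_nonsplit (B : X.Modules) (h : ¬ Subsingleton (Coh.HH X (CohB1.tensorMod B A') 1)) :
    ∃ (M : X.Modules) (i : B ⟶ M) (p : M ⟶ A) (w : i ≫ p = 0), (ShortComplex.mk i p w).ShortExact ∧
      ¬ ∃ s : A ⟶ M, s ≫ p = 𝟙 A := by
  have := HasExt.standard X.Modules
  have := KFlatMod.isGrothendieckAbelian X
  obtain ⟨e⟩ := nonempty_ext_equiv A A' B
  exact exists_nonsplit_of_ext A B fun h' => h e.symm.toEquiv.subsingleton

end

end K705.ExtH1
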