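import Groth.Agent.VBCurve.K703.Duality
import Groth.Agent.VBCurve.K705.ExtH1
import Groth.Agent.VBCurve.K705.Setup
import Groth.Agent.VBCurve.K707.MaxSlope
import Groth.Agent.VBCurve.K707.TensL
import Groth.Agent.VBCurve.K708.Geom
import Groth.Agent.VBCurve.K708.SSH0
import Groth.Agent.S1521

/-!
# Curves of genus one (helper705)

For `X` smooth proper integral of dimension one with `h⁰(O) = 1` and genus one:
* `exists_ne_zero`: `H¹(V) ≠ 0` gives a nonzero `V → O`;
* `exists_section`: an extension `0 → A → E → B → 0` with `Hom(A, B) = 0` splits;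
* `ss_of_indecomposable`: indecomposable modules are semistable.
-/

set_option autoImplicit false
universe u

open CategoryTheory CategoryTheory.Limits AlgebraicGeometry TopologicalSpace Opposite MonoidalCategory

namespace K705.Gen1

open scoped Groth.Agent.Dcoh.MonCat
open Groth.Agent.VarietyA.DegRank K707.Base K707.Deg K707.Slope K707.Semi K705.Setup K705.ExtH1

variable {k : Type u} [Field k] {X : Scheme.{u}} [X.Over (Spec (CommRingCat.of k))]
  [IsIntegral X] [IsProper (X ↘ (Spec (CommRingCat.of k)))]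

/-- the dualizing module is trivial -/
theorem nonempty_iso_unit (hdim : topologicalKrullDim X = 1) (hg : Curv2.genus k X = 1)
    (h0 : Module.finrank k (Coh.HH X (Coh.structureModule X) 0) = 1) (D : K703.Duality.Dualizing k X) :
    Nonempty (Coh.structureModule X ≅ D.w) := by
  have h1 := D.h0_w
  rw [hg] at h1
  have h2 : ¬ Subsingleton (Coh.HH X D.w 0) := fun h => by
    rw [Module.finrank_zero_of_subsingleton] at h1
    exact absurd h1 (by norm_num)
  rw [← K708.HomH0.forall_unit_hom_eq_zero_iff, not_forall] at h2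
  obtain ⟨φ, hφ⟩ := h2
  have h3 := Groth.Agent.S1521.result k X hdim _ _ (K707.TensL.rank_one_iff.mp K708.SSH0.rank_structureModule)
    D.inv φ hφ
  have h4 := D.deg_w hdim h0
  rw [hg] at h4
  have h5 : Curv2.deg k X (Coh.structureModule X) 1 = 0 := K708.Deg.deg_structureModule k
  have := h3.2 (by rw [h4, h5]; norm_num)
  exact ⟨asIso φ⟩

variable (k) in
/-- `X` has genus one (and `h⁰(O) = 1`). -/
structure G1 (X : Scheme.{u}) [X.Over (Spec (CommRingCat.of k))] : Prop where
  dim : topologicalKrullDim X = 1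
  smooth : Smooth (X ↘ (Spec (CommRingCat.of k)))
  genus : Curv2.genus k X = 1
  h0 : Module.finrank k (Coh.HH X (Coh.structureModule X) 0) = 1

omit [IsProper (X ↘ (Spec (CommRingCat.of k)))] in
theorem G1.crv (g : G1 k X) : Crv k X := by
  have := g.smooth
  exact Crv.of_smooth g.dim

theorem G1.euler (g : G1 k X) (M : X.Modules) : Curv2.euler k X M = dg k M := by
  have h1 := euler_eq_dg k M
  have h2 := euler_eq g.crv (Coh.structureModule X)
  have h3 : Module.finrank k (Coh.HH X (Coh.structureModule X) 1) = 1 := g.genus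
  rw [g.h0, h3] at h2
  rw [h1, h2]
  simp

theorem G1.exists_ne_zero (g : G1 k X) {V : X.Modules} (hV : Coh.IsQCoh V) (h : ¬ Subsingleton (Coh.HH X V 1)) :
    ∃ φ : V ⟶ Coh.structureModule X, φ ≠ 0 := by
  have := g.smooth
  obtain ⟨D⟩ := K703.Duality.nonempty_dualizing k X g.dim
  obtain ⟨e⟩ := nonempty_iso_unit g.dim g.genus g.h0 D
  obtain ⟨φ, hφ⟩ := D.exists_ne_zero hV h
  refine ⟨φ ≫ e.inv, fun h' => hφ ?_⟩
  rw [← cancel_mono e.inv, h', zero_comp]

/-- `H¹(A ⊗ B^∨) = 0` if `Hom(A, B) = 0`. -/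
theorem G1.subsingleton_h1 (g : G1 k X) {A B B' : X.Modules} [ExactPairing B B']
    (hq : Coh.IsQCoh (CohB1.tensorMod A B')) (h : ∀ φ : A ⟶ B, φ = 0) :
    Subsingleton (Coh.HH X (CohB1.tensorMod A B') 1) := by
  by_contra hc
  obtain ⟨φ, hφ⟩ := g.exists_ne_zero hq hc
  apply hφ
  let _ : ExactPairing B' B := K708.Dual.swapPairing B B'
  let e := K708.Dual.homEquivTensor B' B A (Coh.structureModule X)
  have h1 : e φ = e 0 := by
    have h2 : ∀ ψ : A ⟶ (𝟙_ X.Modules) ⊗ B, ψ = 0 := fun ψ => by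
      rw [← cancel_mono (λ_ B).hom, zero_comp]
      exact h _
    exact (h2 _).trans (h2 _).symm
  exact e.injective h1

/-- An extension `0 → A → E → B → 0` with `Hom(A, B) = 0` splits. -/
theorem G1.exists_section (g : G1 k X) (T : ShortComplex X.Modules) (hT : T.ShortExact)
    (h₁ : FlatMod.IsFinLocFree T.X₁) (h₃ : FlatMod.IsFinLocFree T.X₃) (h : ∀ φ : T.X₁ ⟶ T.X₃, φ = 0) :
    ∃ s : T.X₃ ⟶ T.X₂, s ≫ T.g = 𝟙 _ := by
  obtain ⟨B', hB', ⟨P⟩⟩ := K708.Dual.exists_dual (isFinLocFreeOfRank_rk h₃)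
  have := isLocNoeth g.crv
  exact exists_section_of_h1 T hT B' (g.subsingleton_h1
    (coh_of_vb (K707.TensL.vb_tensor h₁ (isFinLocFree_of_rank hB'))).1 h)

/-- **On a curve of genus one an indecomposable module is semistable.** -/
theorem G1.ss_of_indecomposable (g : G1 k X) {E : X.Modules} (hE : FlatMod.IsFinLocFree E)
    (hind : ¬ IsZero E ∧ ∀ (E₁ E₂ : X.Modules), Nonempty (E ≅ E₁ ⊞ E₂) → IsZero E₁ ∨ IsZero E₂) : SS k E := by
  have C := g.crv
  have hpos : 0 < rk E := Nat.pos_of_ne_zero fun h => hind.1 (isZero_of_rk_eq_zero C hE h)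
  obtain ⟨G, Q, j, q, w, hS, hG, hQ, hG0, hGs, h1, h2⟩ := K707.MaxSlope.exists_max C hE hpos
  have hhom : ∀ φ : G ⟶ Q, φ = 0 := by
    intro φ
    by_contra hφ
    obtain ⟨I, p, i, hp, hi, hpi, hI, -⟩ := exists_factor C φ (coh_of_vb hG) (coh_of_vb hQ)
    have hIv := vb_of_mono C i hI hQ
    have hI0 : 0 < rk I := Nat.pos_of_ne_zero fun h => hφ (by
      have := isZero_of_rk_eq_zero C hIv h
      rw [← hpi, this.eq_of_tgt p 0, zero_comp])
    have h3 := h2 I i hi hI hI0
    have h4 := hGs.quot C hG p hI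
    linarith
  obtain ⟨s, hs⟩ := g.exists_section _ hS hG hQ hhom
  have hsp := ShortComplex.Splitting.ofExactOfSection _ hS.exact s hs hS.mono_f
  rcases hind.2 G Q ⟨hsp.isoBinaryBiproduct⟩ with h | h
  · have := rk_of_isZero h
    omega
  · have hj : IsIso j := by
      have := hS.mono_f
      have : Epi j := (hS.exact).epi_f (h.eq_of_tgt _ _)
      exact isIso_of_mono_of_epi j
    intro F i hi hF
    have h3 := h1 F i hi hF
    rw [← dg_iso k (asIso j), ← rk_iso (asIso j)]
    exact h3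

end K705.Gen1
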