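import Mathlib.CategoryTheory.Abelian.Basic
import Mathlib.CategoryTheory.Preadditive.AdditiveFunctor
import Mathlib.CategoryTheory.Limits.Preserves.Finite

/-!
# Objects linearised by an involution `S` of an abelian category (helper705)

`S : A ⥤ A` with `c : S ⋙ S ≅ 𝟭`, `φ : S E ≅ E` with `S φ ≫ φ = c`.  For a mono `i : F ⟶ E` put `i' = S i ≫ φ`;
the intersection and the sum of `F` and `S F` are invariant.
-/

set_option autoImplicit false
universe u v

open CategoryTheory CategoryTheory.Limits

namespace K705.Invol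

variable {A : Type u} [Category.{v} A] [Abelian A] (S : A ⥤ A) [S.Additive]
  (c : S ⋙ S ≅ 𝟭 A) {E : A} (φ : S.obj E ≅ E) (hφ : S.map φ.hom ≫ φ.hom = c.hom.app E)

/-- `F` is invariant. -/
def Inv {F : A} (i : F ⟶ E) : Prop := ∃ j : S.obj F ⟶ F, j ≫ i = S.map i ≫ φ.hom

/-- the conjugate of a subobject -/
abbrev conj {F : A} (i : F ⟶ E) : S.obj F ⟶ E := S.map i ≫ φ.hom

include hφ in
omit [Abelian A] [S.Additive] in
theorem conj_conj {F : A} (i : F ⟶ E) : S.map (conj S φ i) ≫ φ.hom = c.hom.app F ≫ i := by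
  rw [conj, S.map_comp, Category.assoc, hφ]
  exact c.hom.naturality i

/-- the sum map -/
noncomputable abbrev sm {F : A} (i : F ⟶ E) : F ⊞ S.obj F ⟶ E := biprod.desc i (conj S φ i)

include hφ in
/-- The sum is invariant. -/
theorem inv_sum [S.PreservesEpimorphisms] {F B : A} (i : F ⟶ E) (e : F ⊞ S.obj F ⟶ B) [Epi e] (m : B ⟶ E) [Mono m]
    (hm : e ≫ m = sm S φ i) : Inv S φ m := by
  have h : S.map m ≫ φ.hom ≫ cokernel.π m = 0 := by
    rw [← cancel_epi (S.map e), comp_zero, ← Category.assoc, ← S.map_comp, hm]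
    have h1 : (𝟙 (F ⊞ S.obj F)) = biprod.fst ≫ biprod.inl + biprod.snd ≫ biprod.inr := biprod.total.symm
    have h2 : S.map (sm S φ i) = S.map (biprod.fst : F ⊞ S.obj F ⟶ F) ≫ S.map i +
        S.map (biprod.snd : F ⊞ S.obj F ⟶ S.obj F) ≫ S.map (conj S φ i) := by
      rw [← S.map_comp, ← S.map_comp, ← S.map_add]
      congr 1
      rw [sm, biprod.desc_eq]
    have h3 : conj S φ i ≫ cokernel.π m = 0 := by
      have : conj S φ i = biprod.inr ≫ e ≫ m := by rw [hm, sm, biprod.inr_desc]
      rw [this, Category.assoc, Category.assoc, cokernel.condition, comp_zero, comp_zero]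
    have h4 : i ≫ cokernel.π m = 0 := by
      have : i = biprod.inl ≫ e ≫ m := by rw [hm, sm, biprod.inl_desc]
      rw [this, Category.assoc, Category.assoc, cokernel.condition, comp_zero, comp_zero]
    have h5 := conj_conj S c φ hφ i
    rw [h2, Preadditive.add_comp]
    have h6 : S.map i ≫ φ.hom ≫ cokernel.π m = 0 := by
      have := h3
      rw [conj, Category.assoc] at this
      exact this
    have h7 : S.map (conj S φ i) ≫ φ.hom ≫ cokernel.π m = 0 := by
      rw [← Category.assoc, h5]
      exact (Category.assoc _ _ _).trans (by rw [h4, comp_zero])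
    rw [Category.assoc, h6, Category.assoc, h7, comp_zero, comp_zero, add_zero]
  refine ⟨Abelian.monoLift m (S.map m ≫ φ.hom) (by rw [Category.assoc, h]), Abelian.monoLift_comp _ _ _⟩

variable {F : A} (i : F ⟶ E)

/-- the intersection of `F` and `S F` as a subobject of `E` -/
noncomputable abbrev int : kernel (sm S φ i) ⟶ E := kernel.ι (sm S φ i) ≫ biprod.fst ≫ i

theorem int_eq : int S φ i = -(kernel.ι (sm S φ i) ≫ biprod.snd ≫ conj S φ i) := by
  refine eq_neg_of_add_eq_zero_left ?_
  rw [int, ← Preadditive.comp_add, ← biprod.desc_eq]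
  exact kernel.condition (sm S φ i)

instance [Mono i] [Mono (S.map i)] : Mono (int S φ i) := by
  refine Preadditive.mono_of_cancel_zero _ fun {P} g hg => ?_
  have h1 : g ≫ kernel.ι (sm S φ i) ≫ biprod.fst = 0 := by
    rw [← cancel_mono i, zero_comp, Category.assoc, Category.assoc]
    exact hg
  have h2 : g ≫ kernel.ι (sm S φ i) ≫ biprod.snd = 0 := by
    rw [int_eq, Preadditive.comp_neg, neg_eq_zero] at hg
    have : Mono (conj S φ i) := mono_comp _ _
    rw [← cancel_mono (conj S φ i), zero_comp, Category.assoc, Category.assoc]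
    exact hg
  rw [← cancel_mono (kernel.ι (sm S φ i)), zero_comp]
  apply biprod.hom_ext
  · rw [Category.assoc, h1, zero_comp]
  · rw [Category.assoc, h2, zero_comp]

include hφ in
/-- The intersection is invariant. -/
theorem inv_int : Inv S φ (int S φ i) := by
  have h5 := conj_conj S c φ hφ i
  let a : S.obj (kernel (sm S φ i)) ⟶ F := S.map (kernel.ι (sm S φ i) ≫ biprod.snd) ≫ c.hom.app F
  let b : S.obj (kernel (sm S φ i)) ⟶ S.obj F := S.map (kernel.ι (sm S φ i) ≫ biprod.fst)
  have ha : a ≫ i = S.map (kernel.ι (sm S φ i) ≫ biprod.snd ≫ conj S φ i) ≫ φ.hom := by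
    have : S.map (kernel.ι (sm S φ i) ≫ biprod.snd ≫ conj S φ i) ≫ φ.hom =
        S.map (kernel.ι (sm S φ i) ≫ biprod.snd) ≫ S.map (conj S φ i) ≫ φ.hom := by
      rw [← Category.assoc (kernel.ι _), S.map_comp, Category.assoc]
    rw [this, h5]
    exact Category.assoc _ _ _
  have hb : b ≫ conj S φ i = S.map (int S φ i) ≫ φ.hom := by
    change S.map _ ≫ S.map i ≫ φ.hom = _
    rw [← Category.assoc, ← S.map_comp, Category.assoc]
  have hab : a ≫ i + b ≫ conj S φ i = 0 := by
    rw [ha, hb, ← Preadditive.add_comp, ← S.map_add, int_eq, add_neg_cancel, S.map_zero, zero_comp]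
  have h6 : biprod.lift a b ≫ sm S φ i = 0 := by
    rw [biprod.lift_desc]
    exact hab
  refine ⟨-kernel.lift _ _ h6, ?_⟩
  rw [int, Preadditive.neg_comp, kernel.lift_ι_assoc, biprod.lift_fst_assoc, ← hb]
  exact neg_eq_of_add_eq_zero_right hab

end K705.Invol
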