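import Groth.Agent.VBCurve.K705.Setup
import Groth.Agent.VBCurve.K705.Invol
import Groth.Agent.PerfB.FibreConc
import Groth.Agent.S1666

/-!
# Modules linearised by an involution of a smooth curve (helper705)
-/

set_option autoImplicit false
universe u

open CategoryTheory CategoryTheory.Limits AlgebraicGeometry TopologicalSpace Opposite

namespace K705.InvolX

open Groth.Agent.VarietyA.DegRank K707.Base K707.Deg K707.Slope K707.Semi K705.Setup

section

variable {X : Scheme.{u}} (σ : X ⟶ X) (hσ : σ ≫ σ = 𝟙 X)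

/-- `σ^* σ^* ≅ 𝟭` -/
noncomputable def c : Scheme.Modules.pullback σ ⋙ Scheme.Modules.pullback σ ≅ 𝟭 X.Modules :=
  Scheme.Modules.pullbackComp σ σ ≪≫ Scheme.Modules.pullbackCongr hσ ≪≫ Scheme.Modules.pullbackId X

theorem c_app (E : X.Modules) : (c σ hσ).hom.app E =
    (Scheme.Modules.pullbackComp σ σ).hom.app E ≫ (Scheme.Modules.pullbackCongr hσ).hom.app E ≫
        (Scheme.Modules.pullbackId X).hom.app E := by
  rfl

include hσ in
theorem isEquivalence : (Scheme.Modules.pullback σ).IsEquivalence :=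
  inferInstanceAs (CategoryTheory.Equivalence.mk (Scheme.Modules.pullback σ) (Scheme.Modules.pullback σ)
    (c σ hσ).symm (c σ hσ)).functor.IsEquivalence

include hσ in
theorem isIso : IsIso σ := ⟨σ, hσ, hσ⟩

end

variable {k : Type u} [Field k] {X : Scheme.{u}} [X.Over (Spec (CommRingCat.of k))]
  [IsIntegral X] [IsProper (X ↘ (Spec (CommRingCat.of k)))]
  (σ : X ⟶ X) (hσ : σ ≫ σ = 𝟙 X) (hσS : σ ≫ (X ↘ (Spec (CommRingCat.of k))) = X ↘ (Spec (CommRingCat.of k)))

include hσS in
theorem deg_pullback_of_isIso (hdim : topologicalKrullDim X = 1) [IsIso σ] {M : X.Modules} {n : ℕ}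
    (hM : FlatMod.IsFinLocFreeOfRank n M) :
    Curv2.deg k X ((Scheme.Modules.pullback σ).obj M) n = Curv2.deg k X M n := by
  refine Groth.Agent.S1666.result k X X hdim.le hdim.le σ hσS ⊤ ?_ ?_ ?_ n M hM
  · exact dense_univ
  · exact dense_univ
  · infer_instance

include hσS in
theorem dg_pullback (hdim : topologicalKrullDim X = 1) [IsIso σ] {M : X.Modules}
    (hM : FlatMod.IsFinLocFree M) :
    dg k ((Scheme.Modules.pullback σ).obj M) = dg k M ∧ rk ((Scheme.Modules.pullback σ).obj M) = rk M ∧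
      FlatMod.IsFinLocFree ((Scheme.Modules.pullback σ).obj M) := by
  have h := isFinLocFreeOfRank_rk hM
  have h' := Groth.Agent.PerfB.FibreConc.isFinLocFreeOfRank_pullback σ h
  refine ⟨?_, rk_of_rank h', isFinLocFree_of_rank h'⟩
  rw [dg_of_rank k h, dg_of_rank k h', deg_pullback_of_isIso σ hσS hdim h]

end K705.InvolX
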