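import Groth.Agent.VBCurve.K705.Gen1Alg
import Groth.Agent.VBCurve.K705.InvSub
import Groth.Agent.VBCurve.K707.PairInv

/-!
# Stable modules on a curve of genus one over an algebraically closed field (helper705)

* `st_twist`: twisting by an invertible module preserves stability;
* `exists_inv_hom`: a bundle of degree `0` on a curve of genus one receives a nonzero map from an invertible module of
  degree `≥ 0`;
* `gcd_eq_one`: a stable module has coprime rank and degree;
* `stable_of_gcd`: a semistable module of coprime rank and degree is stable (any curve).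
-/

set_option autoImplicit false
universe u

open CategoryTheory CategoryTheory.Limits AlgebraicGeometry TopologicalSpace Opposite MonoidalCategory

namespace K705.Gen1Iff

open scoped Groth.Agent.Dcoh.MonCat
open Groth.Agent Groth.Agent.VarietyA.DegRank K707.Base K707.Deg K707.Slope K707.Semi K707.TensL K705.Setup
  K705.Gen1

variable {k : Type u} [Field k] {X : Scheme.{u}} [X.Over (Spec (CommRingCat.of k))]
  [IsIntegral X] [IsProper (X ↘ (Spec (CommRingCat.of k)))]

theorem homEquivTensor_zero {X : Scheme.{u}} (E E' A F : X.Modules) [ExactPairing E E'] :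
    K708.Dual.homEquivTensor E E' A F 0 = 0 := by
  change (ρ_ A).inv ≫ A ◁ η_ E E' ≫ (α_ A E E').inv ≫ (0 : A ⊗ E ⟶ F) ▷ E' = 0
  rw [MonoidalPreadditive.zero_whiskerRight, comp_zero, comp_zero, comp_zero]

theorem numbers_twist (C : Crv k X) {E L : X.Modules} (hL : PicF.IsInvertible L) (hE : FlatMod.IsFinLocFree E) :
    FlatMod.IsFinLocFree ((T L).obj E) ∧ rk ((T L).obj E) = rk E ∧
      dg k ((T L).obj E) = dg k E + rk E * dg k L := by
  have := isLocNoeth C
  have r1 := rank_one_iff.mpr hL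
  have h2 := rk_tensor r1 (coh_of_vb hE)
  have h3 := dg_tensor k C.dim r1 (coh_of_vb hE)
  refine ⟨vb_tensor hE (vb_of_inv hL), h2.trans (one_mul _), h3.trans ?_⟩
  push_cast
  ring

theorem st_twist (C : Crv k X) {E L : X.Modules} (hL : PicF.IsInvertible L) (hE : FlatMod.IsFinLocFree E)
    (h : St k E) : St k ((T L).obj E) := by
  intro F i hi hF h0 h1
  obtain ⟨J, j, e, hj, hJ, hje, e1, e2⟩ := K707.PairInv.exists_untwist C hL hE (coh_of_vb hF) i
  obtain ⟨-, e3, e4⟩ := numbers_twist C hL hE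
  rw [e3] at h1 ⊢
  rw [e4, e2, ← e1]
  have h2 := h J j hj hJ (by omega) (by omega)
  linarith

/-- A bundle of degree zero on a curve of genus one receives a nonzero map from an invertible module of degree at
least zero. -/
theorem exists_inv_hom [IsAlgClosed k] (g : G1 k X) {V : X.Modules} (hV : FlatMod.IsFinLocFree V)
    (h0 : 0 < rk V) (hd : dg k V = 0) :
    ∃ (L : X.Modules) (f : L ⟶ V), PicF.IsInvertible L ∧ f ≠ 0 ∧ 0 ≤ dg k L := by
  have C := g.crv
  obtain ⟨N, hN, hN1⟩ := K705.Gen1Alg.exists_inv_deg k C 1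
  obtain ⟨vW, rW, dW⟩ := numbers_twist C hN hV
  rw [hN1, hd] at dW
  have h0' : (0 : ℤ) < rk V := by exact_mod_cast h0
  obtain ⟨L, f, hL, hf, hLd⟩ := K705.InvSub.exists_inv_sub C vW (by rw [dW]; linarith) (by
    have h1 := g.euler ((T N).obj V)
    rw [euler_eq C, dW] at h1
    rw [rW]
    zify
    have : (0 : ℤ) ≤ Module.finrank k (Coh.HH X ((T N).obj V) 1) := by positivity
    linarith)
  have hm : Mono f := K708.SSH0.mono_of_rank_one C (rank_one_iff.mpr hL) vW f hf
  obtain ⟨J, j, e, hj, hJ, hje, e1, e2⟩ := K707.PairInv.exists_untwist C hN hV (coh_of_vb (vb_of_inv hL)) f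
  have hrL : rk L = 1 := rk_of_rank (rank_one_iff.mpr hL)
  rw [hrL] at e1
  refine ⟨J, j, ?_, ?_, ?_⟩
  · rw [← rank_one_iff, ← e1]
    exact isFinLocFreeOfRank_rk hJ
  · rintro rfl
    have : IsZero J := by
      rw [IsZero.iff_id_eq_zero, ← cancel_mono (0 : J ⟶ V), comp_zero, comp_zero]
    rw [rk_of_isZero this] at e1
    exact absurd e1 (by norm_num)
  · rw [e1, hN1] at e2
    push_cast at e2
    linarith

omit [IsProper (X ↘ (Spec (CommRingCat.of k)))] in
/-- A semistable module of coprime rank and degree is stable. -/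
theorem stable_of_gcd {E : X.Modules} (h : SS k E) (hgcd : Int.gcd (dg k E) (rk E : ℤ) = 1) :
    St k E := by
  intro F i hi hF h0 h1
  exact lt_of_le_of_ne (h F i hi hF) (K705.Gen1Stab.ne_of_coprime hgcd h0 h1)

/-- **A stable module on a curve of genus one over an algebraically closed field has coprime rank and degree.** -/
theorem gcd_eq_one [IsAlgClosed k] (g : G1 k X) {F : X.Modules} (hF : FlatMod.IsFinLocFree F)
    (hr : 0 < rk F) (hst : St k F) : Int.gcd (dg k F) (rk F : ℤ) = 1 := by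
  have C := g.crv
  have hgpos : 0 < Int.gcd (dg k F) (rk F : ℤ) := Int.gcd_pos_of_ne_zero_right _ (by positivity)
  obtain ⟨a, b, hab, ha, hb⟩ := Int.exists_gcd_one hgpos
  set h : ℕ := Int.gcd (dg k F) (rk F : ℤ) with hh
  have hh0 : (0 : ℤ) < h := by exact_mod_cast hgpos
  have hb0 : 0 < b := by
    have h1 : (0 : ℤ) < rk F := by positivity
    rw [hb] at h1
    exact pos_of_mul_pos_left h1 hh0.le
  obtain ⟨b', rfl⟩ := Int.eq_ofNat_of_zero_le hb0.le
  have hb0' : 0 < b' := by exact_mod_cast hb0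
  obtain ⟨E₀, q, e, s⟩ := K705.Gen1Stab.exists_stable g (fun d => K705.Gen1Alg.exists_inv_deg k C d) b' hb0' a hab
  have v := isFinLocFree_of_rank q
  obtain ⟨E₀', q', ⟨P⟩⟩ := K708.Dual.exists_dual q
  have v' := isFinLocFree_of_rank q'
  have hd' : dg k E₀' = -a := by rw [K708.DualDeg.dg_dual C v E₀', e]
  have : IsLocallyNoetherian X := isLocNoeth C
  -- `V = F ⊗ E₀'`
  have vV : FlatMod.IsFinLocFree (CohB1.tensorMod F E₀') := vb_tensor hF v'
  have rV : rk (CohB1.tensorMod F E₀') = b' * rk F := rk_tensor q' (coh_of_vb hF)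
  have dV : dg k (CohB1.tensorMod F E₀') = b' * dg k F + rk F * dg k E₀' := dg_tensor k C.dim q' (coh_of_vb hF)
  obtain ⟨L, f, hL, hf, hLd⟩ := exists_inv_hom g vV (by rw [rV]; positivity) (by
    rw [dV, hd', ha, hb]; ring)
  -- a nonzero map `E₀ ⊗ L → F`
  let ψ : CohB1.tensorMod L E₀ ⟶ F := (K708.Dual.homEquivTensor E₀ E₀' L F).symm f
  have hψ : ψ ≠ 0 := by
    intro h0
    apply hf
    have h1 : f = K708.Dual.homEquivTensor E₀ E₀' L F ψ := ((K708.Dual.homEquivTensor E₀ E₀' L F).apply_symm_apply f).symm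
    rw [h1, h0]
    exact homEquivTensor_zero E₀ E₀' L F
  let θ : (T L).obj E₀ ⟶ F := (Ega2.Tens.swap E₀ L).hom ≫ ψ
  have hθ : θ ≠ 0 := by
    intro h0
    apply hψ
    rw [← cancel_epi (Ega2.Tens.swap E₀ L).hom, comp_zero]
    exact h0
  obtain ⟨vM, rM, dM⟩ := numbers_twist C hL v
  have hiso := (st_twist C hL v s).isIso_of_ne_zero C vM hst hF (by
    rw [rM, dM, rk_of_rank q, e, ha, hb]
    have h1 : (0 : ℤ) ≤ (b' * dg k L) * (b' * h) := by positivity
    push_cast
    linarith) θ hθ
  have h1 := rk_iso (asIso θ)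
  rw [rM, rk_of_rank q] at h1
  rw [← h1] at hb
  have h2 : (b' : ℤ) * (h - 1) = 0 := by linear_combination -hb
  rcases mul_eq_zero.mp h2 with h3 | h3
  · omega
  · omega

end K705.Gen1Iff
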