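import Groth.Agent.VBCurve.K705.Gen1Stab
import Groth.Agent.VBCurve.K704.Base
import Groth.Agent.VBCurve.K708.PtTwist

/-!
# Curves of genus one over an algebraically closed field (helper705)
-/

set_option autoImplicit false
universe u

open CategoryTheory CategoryTheory.Limits AlgebraicGeometry TopologicalSpace Opposite

namespace K705.Gen1Alg

open Groth.Agent.VarietyA.DegRank K707.Base K707.Deg K707.Slope K707.Semi K705.Setup K705.Gen1

variable {k : Type u} [Field k] [IsAlgClosed k] {X : Scheme.{u}} [X.Over (Spec (CommRingCat.of k))]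
  [IsIntegral X] [IsProper (X ↘ (Spec (CommRingCat.of k)))]

variable (k) in
theorem exists_inv_deg (C : Crv k X) (d : ℤ) : ∃ L : X.Modules, PicF.IsInvertible L ∧ dg k L = d := by
  rcases Int.le_total 0 d with h | h
  · obtain ⟨L, h1, h2⟩ := K704.Base.exists_deg_nat k X C.dim d.toNat
    refine ⟨L, h1, ?_⟩
    rw [dg_of_rank k (K707.TensL.rank_one_iff.mpr h1), h2, Int.toNat_of_nonneg h]
  · obtain ⟨L, h1, h2⟩ := K704.Base.exists_deg_nat k X C.dim (-d).toNat
    obtain ⟨M, h3, -, -, h4⟩ := K708.PtTwist.exists_inv C h1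
    refine ⟨M, h3, ?_⟩
    rw [h4, dg_of_rank k (K707.TensL.rank_one_iff.mpr h1), h2, Int.toNat_of_nonneg (by linarith)]
    ring

theorem g1 [Smooth (X ↘ Spec (CommRingCat.of k))] (hdim : topologicalKrullDim X = 1)
    (hg : Curv2.genus k X = 1) : G1 k X :=
  ⟨hdim, inferInstance, hg, Groth.Agent.VarietyA.CurveFin.finrank_h0_structure k X⟩

end K705.Gen1Alg
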