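import Groth.Agent.VBCurve.K707.TensL
import Groth.Agent.VBCurve.K708.Dual
import Groth.Agent.VarietyB.ProjForm
import Groth.Agent.PerfB.TensExact

/-!
# The sequence `0 → E → f_* f^* E → K ⊗ E → 0` (helper705)

Let `0 → O_Y → f_* O_X → K → 0` be exact, the first map being the canonical one.  Tensoring with a bundle `E` gives the
exact sequence `0 → E → f_* f^* E → K ⊗ E → 0` whose first map is the unit of the adjunction.
-/

set_option autoImplicit false
universe u

open CategoryTheory CategoryTheory.Limits AlgebraicGeometry TopologicalSpace Opposite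

namespace K705.UnitSeq

open Groth.Agent Groth.Agent.VarietyB.ProjForm Groth.Agent.VarietyB.TensCoh
open Groth.Agent.Ega2.Tens
open Groth.Agent.Fdesc.LocGen (pullSec pullSec_smul)

variable {X Y : Scheme.{u}} (f : X ⟶ Y)

/-- `f_* O_X ⊗ E ≅ f_* f^* E` -/
noncomputable def α {E : Y.Modules} (hE : HasBases E) :
    CohB1.tensorMod ((Scheme.Modules.pushforward f).obj (Coh.structureModule X)) E ≅
      (Scheme.Modules.pushforward f).obj ((Scheme.Modules.pullback f).obj E) :=
  Groth.Agent.Ega2.Tens.swap _ _ ≪≫ projIsoUnit f hE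

/-- the canonical map `O_Y → f_* O_X`, characterised by its components -/
def IsUnitMap (u : Coh.structureModule Y ⟶ (Scheme.Modules.pushforward f).obj (Coh.structureModule X)) : Prop :=
  ∀ (U : Y.Opens) (r : Γ(Y, U)),
    u.app U (sm r) = (show Γ((Scheme.Modules.pushforward f).obj (Coh.structureModule X), U) from
      sm (X := X) (U := f ⁻¹ᵁ U) (f.app U r))

theorem isUnitMap_unitToPush : IsUnitMap f (ClSub.unitToPush f) := fun _ _ => rfl

variable {f}

theorem comp_eq {u : Coh.structureModule Y ⟶ (Scheme.Modules.pushforward f).obj (Coh.structureModule X)}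
    (hu : IsUnitMap f u) {E : Y.Modules} (hE : HasBases E) :
    mapT u (𝟙 E) ≫ (α f hE).hom =
      (lunit E).hom ≫ (Scheme.Modules.pullbackPushforwardAdjunction f).unit.app E := by
  refine Groth.Agent.Ega2.Tens.hom_ext _ _ fun U n m => ?_
  suffices key : ∀ r : Γ(Y, U), (mapT u (𝟙 E) ≫ (α f hE).hom).app U (tmul (sm r) m) =
      ((lunit E).hom ≫ (Scheme.Modules.pullbackPushforwardAdjunction f).unit.app E).app U (tmul (sm r) m) from key n
  intro r
  have h1 : (mapT u (𝟙 E)).app U (tmul (sm r) m) = tmul (u.app U (sm r)) m := mapT_tmul _ _ _ _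
  have h2 : (swap ((Scheme.Modules.pushforward f).obj (Coh.structureModule X)) E).hom.app U
      (tmul (u.app U (sm r)) m) = tmul m (u.app U (sm r)) := swapHom_tmul _ _
  have h3 := projMor_tmul f E (Coh.structureModule X) m (sm (X := X) (U := f ⁻¹ᵁ U) (f.app U r))
  have h4 : (runit ((Scheme.Modules.pullback f).obj E)).hom.app (f ⁻¹ᵁ U)
      (tmul (pullSec f m) (sm (X := X) (U := f ⁻¹ᵁ U) (f.app U r))) = f.app U r • pullSec f m :=
    runit_hom_tmul _ _
  have h5 : (lunit E).hom.app U (tmul (sm r) m) = r • m := lunit_hom_tmul _ _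
  have h6 : ((Scheme.Modules.pullbackPushforwardAdjunction f).unit.app E).app U (r • m) =
      (show Γ((Scheme.Modules.pushforward f).obj ((Scheme.Modules.pullback f).obj E), U) from
        (f.app U r : Γ(X, f ⁻¹ᵁ U)) • pullSec f m) := pullSec_smul f r m
  have h7 : (α f hE).hom.app U (tmul (u.app U (sm r)) m) =
      (show Γ((Scheme.Modules.pushforward f).obj ((Scheme.Modules.pullback f).obj E), U) from
        (f.app U r : Γ(X, f ⁻¹ᵁ U)) • pullSec f m) := by
    refine Eq.trans ?_ h4
    change (runit ((Scheme.Modules.pullback f).obj E)).hom.app (f ⁻¹ᵁ U)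
      ((projMor f E (Coh.structureModule X)).app U
        ((swap ((Scheme.Modules.pushforward f).obj (Coh.structureModule X)) E).hom.app U
          (tmul (u.app U (sm r)) m))) = _
    rw [h2, hu U r]
    exact congrArg _ h3
  change (α f hE).hom.app U ((mapT u (𝟙 E)).app U (tmul (sm r) m)) =
    ((Scheme.Modules.pullbackPushforwardAdjunction f).unit.app E).app U ((lunit E).hom.app U (tmul (sm r) m))
  rw [h1, h5, h6]
  exact h7

/-- `f_* O_X ⊗ E ≅ f_* f^* E`, as an isomorphism of values of the functor `- ⊗ E` -/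
noncomputable def α' {E : Y.Modules} (hE : HasBases E) :
    (DCoh.tensorRightMod E).obj ((Scheme.Modules.pushforward f).obj (Coh.structureModule X)) ≅
      (Scheme.Modules.pushforward f).obj ((Scheme.Modules.pullback f).obj E) := α f hE

noncomputable def lunit' (E : Y.Modules) : (DCoh.tensorRightMod E).obj (Coh.structureModule Y) ≅ E := lunit E

theorem comp_eq' {u : Coh.structureModule Y ⟶ (Scheme.Modules.pushforward f).obj (Coh.structureModule X)}
    (hu : IsUnitMap f u) {E : Y.Modules} (hE : HasBases E) :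
    (DCoh.tensorRightMod E).map u ≫ (α' hE).hom =
      (lunit' E).hom ≫ (Scheme.Modules.pullbackPushforwardAdjunction f).unit.app E := by
  rw [PerfB.TensExact.tensorRightMod_map_eq]
  exact comp_eq hu hE

/-- Transport of a short exact sequence along two isomorphisms. -/
theorem shortExact_transport {C : Type*} [Category C] [Abelian C] {A B D A' B' : C} {i : A ⟶ B} {p : B ⟶ D}
    {w : i ≫ p = 0} (hS : (ShortComplex.mk i p w).ShortExact) (a : A ≅ A') (b : B ≅ B') {i' : A' ⟶ B'}
    (h : i ≫ b.hom = a.hom ≫ i') :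
    ∃ w' : i' ≫ b.inv ≫ p = 0, (ShortComplex.mk i' (b.inv ≫ p) w').ShortExact := by
  have hp : i' ≫ b.inv ≫ p = 0 := by
    rw [← cancel_epi a.hom, comp_zero, ← Category.assoc, ← h, Category.assoc, Iso.hom_inv_id_assoc, w]
  refine ⟨hp, ShortComplex.shortExact_of_iso ?_ hS⟩
  exact ShortComplex.isoMk a b (Iso.refl _) h.symm (by simp)

/-- `0 → E → f_* f^* E → K ⊗ E → 0` -/
theorem exists_shortExact {u : Coh.structureModule Y ⟶ (Scheme.Modules.pushforward f).obj (Coh.structureModule X)}
    (hu : IsUnitMap f u) {K : Y.Modules} {q : (Scheme.Modules.pushforward f).obj (Coh.structureModule X) ⟶ K}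
    {w : u ≫ q = 0} (hS : (ShortComplex.mk u q w).ShortExact) {E : Y.Modules} (hE : FlatMod.IsFinLocFree E) :
    ∃ (p : (Scheme.Modules.pushforward f).obj ((Scheme.Modules.pullback f).obj E) ⟶ CohB1.tensorMod K E)
      (w' : (Scheme.Modules.pullbackPushforwardAdjunction f).unit.app E ≫ p = 0),
      (ShortComplex.mk ((Scheme.Modules.pullbackPushforwardAdjunction f).unit.app E) p w').ShortExact := by
  have hb : HasBases E := .of_isFinLocFree hE
  have hT := K707.TensL.preservesFiniteLimits hE
  have h1 := hS.map_of_exact (DCoh.tensorRightMod E)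
  exact ⟨_, shortExact_transport h1 (lunit' E) (α' hb) (comp_eq' hu hb)⟩

end K705.UnitSeq
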