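import Groth.Agent.VBCurve.K705.Cov
import Groth.Agent.VBCurve.K705.UnitSeq
import Groth.Agent.VBCurve.K707.PairInv
import Groth.Agent.FinCov.K993.LocFree
import Groth.Agent.FinCov.K993.Split
import Groth.Agent.VBCurve.K708.SSH0
import Groth.Agent.PerfC.FlatExact
import Mathlib.AlgebraicGeometry.Morphisms.FlatRank

/-!
# Double covers with `deg f_* O < 0`: the pullback of a stable bundle is stable (helper705)

* `K705.DblStab.exists_K`: the exact sequence `0 → O_Y → f_* O_X → K → 0`, `K` locally free (characteristic zero);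
* `K705.DblStab.st_pull`: for a flat double cover with `deg f_* O_X < 0`, `f^* E` is stable if `E` is.
-/

set_option autoImplicit false
set_option linter.unusedVariables false
universe u

open CategoryTheory CategoryTheory.Limits AlgebraicGeometry TopologicalSpace Opposite

namespace K705.DblStab

open Groth.Agent Groth.Agent.VarietyA.DegRank K707.Base K707.Deg K707.Slope K707.Semi K707.TensL K705.Cov
open Groth.Agent.Fdesc.LocGen Groth.Agent.Ega2.BasSec

section unit

variable {X Y : Scheme.{u}}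

/-- The two incarnations of `f_* O_X` agree. -/
noncomputable def dirIso (f : X ⟶ Y) [QuasiCompact f] [QuasiSeparated f] :
    (RelSpec.QCAlg.directImage f).toModule ≅ (Scheme.Modules.pushforward f).obj (Coh.structureModule X) where
  hom := Fdesc.LocGen.mkHom (fun U => AddMonoidHom.mk' (fun a => a) fun _ _ => rfl) (fun U a m => rfl) (fun U V h m => rfl)
  inv := Fdesc.LocGen.mkHom (fun U => AddMonoidHom.mk' (fun a => a) fun _ _ => rfl) (fun U a m => rfl) (fun U V h m => rfl)
  hom_inv_id := rfl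
  inv_hom_id := rfl

theorem exists_inv_nsmul {d : ℕ} (hd : IsUnit (d : Γ(Y, ⊤))) :
    ∃ φ : Coh.structureModule Y ⟶ Coh.structureModule Y, (d • 𝟙 (Coh.structureModule Y)) ≫ φ = 𝟙 _ := by
  obtain ⟨v, hv⟩ := K993.Split.exists_inv (U := ⊤) hd
  refine ⟨homOf (ofFun v), ?_⟩
  have h0 : (d • 𝟙 (Coh.structureModule Y)) ≫ homOf (ofFun v) = homOf (ofFun v) ≫ (d • 𝟙 (Coh.structureModule Y)) := by
    rw [Preadditive.nsmul_comp, Preadditive.comp_nsmul, Category.id_comp, Category.comp_id]
  rw [h0]
  apply hom_ext_sec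
  have h3 : ∀ k : ℕ, (homOf (ofFun v) ≫ (k • 𝟙 (Coh.structureModule Y))) =
      homOf (ofFun ((k : Γ(Y, ⊤)) * v)) := by
    intro k
    induction k with
    | zero =>
      apply hom_ext_sec
      rw [zero_smul, comp_zero, sec_homOf, Nat.cast_zero, zero_mul, map_zero, map_zero]
      rfl
    | succ k ih =>
      rw [succ_nsmul, Preadditive.comp_add, ih, Category.comp_id, Nat.cast_succ, add_mul, one_mul, map_add]
      apply hom_ext_sec
      rw [sec_homOf, map_add]
      have : ∀ f g : Coh.structureModule Y ⟶ Coh.structureModule Y, sec (f + g) ⊤ = sec f ⊤ + sec g ⊤ :=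
        fun _ _ => rfl
      rw [this, sec_homOf, sec_homOf]
  rw [h3, sec_homOf, hv, res_ofFun, map_one]
  rfl

theorem isSplitMono_unit {f : X ⟶ Y} [QuasiCompact f] [QuasiSeparated f] {d : ℕ} (hf : FinCov.IsCover f d)
    (hd : IsUnit (d : Γ(Y, ⊤))) : IsSplitMono (ClSub.unitToPush f) := by
  have h1 := ((K993.LocFree.isCover_iff f d).mp hf).2
  have h2 : FlatMod.IsFinLocFreeOfRank d (RelSpec.QCAlg.directImage f).toModule :=
    rank_iso (dirIso f).symm h1
  obtain ⟨τ, hτ, -⟩ := K993.Trace.existsUnique (K993.Rank.isFinLocFree h2)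
  obtain ⟨φ, hφ⟩ := exists_inv_nsmul hd
  refine IsSplitMono.mk' ⟨(dirIso f).inv ≫ τ ≫ φ, ?_⟩
  have h3 : ClSub.unitToPush f = FinCov.strMod (RelSpec.QCAlg.directImage f) ≫ (dirIso f).hom := by
    apply Scheme.Modules.hom_ext
    intro U
    ext a
    rfl
  rw [h3, Category.assoc, Iso.hom_inv_id_assoc, ← Category.assoc, K993.Rank.strMod_comp h2 hτ, hφ]

end unit

theorem IsCov.of_finrank (k : Type u) [Field k] {X Y : Scheme.{u}} [X.Over (Spec (CommRingCat.of k))]
    [Y.Over (Spec (CommRingCat.of k))] [IsProper (Y ↘ (Spec (CommRingCat.of k)))] {f : X ⟶ Y} [IsFinite f] [Flat f]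
    (ov : f ≫ (Y ↘ (Spec (CommRingCat.of k))) = X ↘ (Spec (CommRingCat.of k))) (cX : Crv k X) (cY : Crv k Y)
    {n : ℕ} (hn : 0 < n) (hrk : ∀ y : ↥Y, Scheme.Hom.finrank f y = n) : IsCov k f n := by
  have := isNoetherian k (X := Y)
  have : LocallyOfFinitePresentation f := LocallyOfFinitePresentation.iff_locallyOfFiniteType.mpr inferInstance
  have : Surjective f := (Scheme.Hom.one_le_finrank_iff_surjective f).mp fun y => by rw [hrk]; exact hn
  exact
    { ov := ov
      fin := inferInstance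
      dom := inferInstance
      crvX := cX
      crvY := cY
      rank := ((K993.LocFree.isCover_iff f n).mp ⟨⟨inferInstance, inferInstance, inferInstance⟩, hrk⟩).2 }

variable {k : Type u} [Field k] {X Y : Scheme.{u}} [X.Over (Spec (CommRingCat.of k))]
  [Y.Over (Spec (CommRingCat.of k))] [IsIntegral X] [IsProper (X ↘ (Spec (CommRingCat.of k)))]
  [IsIntegral Y] [IsProper (Y ↘ (Spec (CommRingCat.of k)))] {f : X ⟶ Y}

omit [IsIntegral X] [IsProper (X ↘ (Spec (CommRingCat.of k)))] [IsIntegral Y]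
  [IsProper (Y ↘ (Spec (CommRingCat.of k)))] [X.Over (Spec (CommRingCat.of k))] in
variable (k) in
theorem isUnit_natCast [CharZero k] {n : ℕ} (hn : 0 < n) : IsUnit (n : Γ(Y, ⊤)) := by
  have h1 : IsUnit (n : k) := isUnit_iff_ne_zero.mpr (Nat.cast_ne_zero.mpr hn.ne')
  have h2 := h1.map ((Scheme.ΓSpecIso (CommRingCat.of k)).inv ≫ (Y ↘ Spec (CommRingCat.of k)).appTop).hom
  rwa [map_natCast] at h2

omit [IsIntegral X] [IsProper (X ↘ (Spec (CommRingCat.of k)))] in
/-- `0 → O_Y → f_* O_X → K → 0` with `K` locally free of rank `n - 1` -/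
theorem exists_K [CharZero k] {n : ℕ} (h : IsCov k f n) (hn : 0 < n) :
    ∃ (K : Y.Modules) (q : (Scheme.Modules.pushforward f).obj (Coh.structureModule X) ⟶ K)
      (w : ClSub.unitToPush f ≫ q = 0), (ShortComplex.mk (ClSub.unitToPush f) q w).ShortExact ∧
      FlatMod.IsFinLocFree K ∧ rk K + 1 = n ∧
      dg k K = dg k ((Scheme.Modules.pushforward f).obj (Coh.structureModule X)) := by
  have := h.fin
  have hc : FinCov.IsCover f n := (K993.LocFree.isCover_iff f n).mpr ⟨inferInstance, h.rank⟩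
  have hs := isSplitMono_unit hc (isUnit_natCast k hn)
  have hvP := isFinLocFree_of_rank h.rank
  have hcO : Coh.IsCoh (Coh.structureModule Y) := by
    have := isNoetherian k (X := Y)
    exact CurvesB.UnitCoh.isCoh_structureModule Y
  have hcP := coh_of_vb hvP
  have hcK := coh_cokernel (ClSub.unitToPush f) hcO hcP
  have hS := cokernel_shortExact (ClSub.unitToPush f)
  obtain ⟨e1, e2⟩ := mono_numbers h.crvY (ClSub.unitToPush f) hcO hcP
  refine ⟨cokernel (ClSub.unitToPush f), cokernel.π _, cokernel.condition _, hS, ?_, ?_, ?_⟩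
  · let σ : cokernel (ClSub.unitToPush f) ⟶ (Scheme.Modules.pushforward f).obj (Coh.structureModule X) :=
      cokernel.desc _ (𝟙 _ - retraction (ClSub.unitToPush f) ≫ ClSub.unitToPush f) (by
        rw [Preadditive.comp_sub, IsSplitMono.id_assoc, Category.comp_id, sub_self])
    have hσ : σ ≫ cokernel.π (ClSub.unitToPush f) = 𝟙 _ := by
      rw [← cancel_epi (cokernel.π (ClSub.unitToPush f)), cokernel.π_desc_assoc, Preadditive.sub_comp,
        Category.assoc, cokernel.condition, comp_zero, sub_zero, Category.id_comp, Category.comp_id]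
    have : Mono σ := mono_of_mono_fac hσ
    exact vb_of_mono h.crvY σ hcK hvP
  · rw [rk_of_rank h.rank] at e1
    rw [K708.SSH0.rk_structureModule] at e1
    omega
  · rw [e2, K708.SSH0.dg_structureModule, zero_add]

omit [X.Over (Spec (CommRingCat.of k))] [IsIntegral X] [IsProper (X ↘ (Spec (CommRingCat.of k)))] in
/-- `E ⊗ L` is semistable if `E` is. -/
theorem ss_twist (C : Crv k Y) {E L : Y.Modules} (hL : PicF.IsInvertible L) (hE : FlatMod.IsFinLocFree E)
    (h : SS k E) : SS k ((T L).obj E) := by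
  intro F i hi hF
  obtain ⟨J, j, e, hj, hJ, hje, e1, e2⟩ := K707.PairInv.exists_untwist C hL hE (coh_of_vb hF) i
  have r1 := rank_one_iff.mpr hL
  have h2 := rk_tensor r1 (coh_of_vb hE)
  have h3 := dg_tensor k C.dim r1 (coh_of_vb hE)
  have h4 := h J j hj hJ
  change dg k F * rk (CohB1.tensorMod E L) ≤ dg k (CohB1.tensorMod E L) * rk F
  rw [h2, h3, e2, ← e1]
  push_cast
  nlinarith

theorem arith {e r p dp q dI δ s dF : ℤ} (hδ : δ < 0) (hs : 0 < s) (hps : p ≤ s) (hr : 0 < r)
    (e1 : 2 * s = p + q) (e2 : dF + s * δ = dp + dI) (hI : dI * r ≤ (e + r * δ) * q)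
    (hst : (p = 0 ∧ dp = 0) ∨ (0 < p ∧ dp * r < e * p)) : dF * r < 2 * e * s := by
  obtain rfl : q = 2 * s - p := by linarith
  have hF : dF * r = dp * r + dI * r - s * δ * r := by
    have : dF = dp + dI - s * δ := by linarith
    rw [this]
    ring
  have h1 : dF * r ≤ dp * r + (2 * e * s - e * p) + r * δ * (s - p) := by
    rw [hF]
    nlinarith
  have h2 : r * δ * (s - p) ≤ 0 :=
    mul_nonpos_of_nonpos_of_nonneg (mul_nonpos_of_nonneg_of_nonpos hr.le hδ.le) (by linarith)
  rcases hst with ⟨rfl, rfl⟩ | ⟨h3, h4⟩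
  · have h5 : r * δ * (s - 0) < 0 := by
      rw [sub_zero]
      exact mul_neg_of_neg_of_pos (mul_neg_of_pos_of_neg hr hδ) hs
    linarith
  · linarith

/-- **The pullback of a stable bundle under a flat double cover with `deg f_* O < 0` is stable.** -/
theorem st_pull [CharZero k] [Flat f] (h : IsCov k f 2)
    (hδ : dg k ((Scheme.Modules.pushforward f).obj (Coh.structureModule X)) < 0) {E : Y.Modules}
    (hE : FlatMod.IsFinLocFree E) (hst : St k E) : St k ((Scheme.Modules.pullback f).obj E) := by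
  intro F i hi hF h0 h1
  have := h.fin
  have hfl : PreservesFiniteLimits (Scheme.Modules.pullback f) := PerfC.FlatExact.preservesFiniteLimits_pullback f
  obtain ⟨vE', rE'⟩ := vb_pull (f := f) hE
  have dE' := h.dg_pull hE
  obtain ⟨K, q, w, hS, vK, rK, dK⟩ := exists_K h (by norm_num)
  have rK1 : rk K = 1 := by omega
  have iK : PicF.IsInvertible K := by
    rw [← rank_one_iff, ← rK1]
    exact isFinLocFreeOfRank_rk vK
  obtain ⟨p, w', hS'⟩ := UnitSeq.exists_shortExact (UnitSeq.isUnitMap_unitToPush f) hS hE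
  -- `W = K ⊗ E`
  have eW := Ega2.Tens.swap K E
  have hssE : SS k E := hst.ss h.crvY hE
  have hWr := rk_tensor (rank_one_iff.mpr iK) (coh_of_vb hE)
  have hWd := dg_tensor k h.crvY.dim (rank_one_iff.mpr iK) (coh_of_vb hE)
  have := isLocNoeth h.crvY
  have vW : FlatMod.IsFinLocFree (CohB1.tensorMod E K) := vb_tensor hE vK
  have ssW := ss_twist h.crvY iK hE hssE
  -- the direct image of `i`
  let g := (Scheme.Modules.pushforward f).map i
  have vP := h.vb_push hF
  have rP := h.rk_push hF
  have dP := h.dg_push hF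
  let φ : (Scheme.Modules.pushforward f).obj F ⟶ CohB1.tensorMod E K := g ≫ p ≫ eW.hom
  obtain ⟨I, φ₁, φ₂, hφ₁, hφ₂, hφ, cI, e1, e2, -, -⟩ := exists_factor h.crvY φ (coh_of_vb vP) (coh_of_vb vW)
  have vI := vb_of_mono h.crvY φ₂ cI vW
  have vK' := vb_kernel h.crvY φ vP (coh_of_vb vW)
  have hI := ssW I φ₂ hφ₂ vI
  -- the kernel embeds into `E`
  have hz : (kernel.ι φ ≫ g) ≫ p = 0 := by
    have h3 : kernel.ι φ ≫ g ≫ p ≫ eW.hom = 0 := kernel.condition φ
    rw [← cancel_mono eW.hom, zero_comp, Category.assoc, Category.assoc, h3]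
  have hmη := hS'.mono_f
  obtain ⟨a, ha⟩ : ∃ a : kernel φ ⟶ E,
      a ≫ (Scheme.Modules.pullbackPushforwardAdjunction f).unit.app E = kernel.ι φ ≫ g :=
    ⟨hS'.exact.lift (kernel.ι φ ≫ g) hz, hS'.exact.lift_f _ hz⟩
  have hma : Mono a := by
    have : Mono (a ≫ (Scheme.Modules.pullbackPushforwardAdjunction f).unit.app E) := by
      rw [ha]
      infer_instance
    exact mono_of_mono a ((Scheme.Modules.pullbackPushforwardAdjunction f).unit.app E)
  have hθ : ((Scheme.Modules.pullback f).map (kernel.ι φ) ≫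
      (Scheme.Modules.pullbackPushforwardAdjunction f).counit.app F) ≫ i = (Scheme.Modules.pullback f).map a := by
    have h4 := (Scheme.Modules.pullbackPushforwardAdjunction f).counit_naturality i
    rw [Category.assoc, ← h4, ← Category.assoc, ← Functor.map_comp]
    change (Scheme.Modules.pullback f).map (kernel.ι φ ≫ g) ≫ _ = _
    rw [← ha, Functor.map_comp, Category.assoc,
      (Scheme.Modules.pullbackPushforwardAdjunction f).left_triangle_components, Category.comp_id]
  have hmθ : Mono ((Scheme.Modules.pullback f).map (kernel.ι φ) ≫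
      (Scheme.Modules.pullbackPushforwardAdjunction f).counit.app F) := by
    have : Mono (((Scheme.Modules.pullback f).map (kernel.ι φ) ≫
      (Scheme.Modules.pullbackPushforwardAdjunction f).counit.app F) ≫ i) := by
      rw [hθ]
      infer_instance
    exact mono_of_mono _ i
  obtain ⟨vQ, rQ⟩ := vb_pull (f := f) vK'
  have hle := rk_le_of_mono h.crvX ((Scheme.Modules.pullback f).map (kernel.ι φ) ≫
      (Scheme.Modules.pullbackPushforwardAdjunction f).counit.app F) (coh_of_vb vQ) (coh_of_vb hF)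
  rw [rQ] at hle
  rw [rE'] at h1 ⊢
  rw [dE']
  have hst' := hst (kernel φ) a hma vK'
  have hz' := dg_of_vb_of_rk_eq_zero h.crvY vK'
  have hI' : dg k I * rk (CohB1.tensorMod E K) ≤ dg k (CohB1.tensorMod E K) * rk I := hI
  rw [hWr, hWd, dK] at hI'
  rw [rP] at e1
  rw [dP] at e2
  have hr : 0 < rk E := lt_trans h0 h1
  have hd : (rk (kernel φ) : ℤ) = 0 ∧ dg k (kernel φ) = 0 ∨
      0 < (rk (kernel φ) : ℤ) ∧ dg k (kernel φ) * rk E < dg k E * rk (kernel φ) := by
    rcases Nat.eq_zero_or_pos (rk (kernel φ)) with h5 | h5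
    · exact Or.inl ⟨by exact_mod_cast h5, hz' h5⟩
    · exact Or.inr ⟨by exact_mod_cast h5, hst' h5 (lt_of_le_of_lt hle h1)⟩
  have e1' : (2 : ℤ) * rk F = rk (kernel φ) + rk I := by exact_mod_cast e1
  have hI'' : dg k I * rk E ≤
      (dg k E + rk E * dg k ((Scheme.Modules.pushforward f).obj (Coh.structureModule X))) * rk I := by
    refine le_trans (le_of_eq ?_) (hI'.trans (le_of_eq ?_))
    · push_cast
      ring
    · push_cast
      ring
  exact arith hδ (by exact_mod_cast h0) (by exact_mod_cast hle) (by exact_mod_cast hr) e1' e2 hI'' hd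

end K705.DblStab
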