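import Groth.Agent.VBCurve.K705.Cov
import Groth.Agent.VBCurve.K703.Chi
import Groth.Agent.S13458
import Groth.Agent.S5015
import Groth.Agent.S9370
import Groth.Agent.S9776
import Groth.Agent.S1612
import Groth.Agent.S5005
import Groth.Agent.CurvesB.OmegaInv
import Mathlib.AlgebraicGeometry.Morphisms.QuasiFinite

/-!
# The degree of `f_* O` for a finite cover of smooth curves in characteristic zero (helper705)

By Riemann–Hurwitz (`c : f^* Ω_Y → Ω_X` is injective, and it is an isomorphism exactly when `f` is étale),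
`deg f_* O_X = 0` if `f` is étale and `deg f_* O_X < 0` otherwise.
-/

set_option autoImplicit false
universe u

open CategoryTheory CategoryTheory.Limits AlgebraicGeometry TopologicalSpace Opposite

namespace K705.RamDeg

open Groth.Agent Groth.Agent.VarietyA.DegRank K707.Base K707.Deg K707.Slope K707.Semi K707.TensL K705.Cov

/-- residue field extensions of locally quasi-finite morphisms are finite -/
theorem residueFieldMap_finite {X Y : Scheme.{u}} (f : X ⟶ Y) [LocallyQuasiFinite f] (x : X) :
    (f.residueFieldMap x).hom.Finite := by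
  have h1 : (f.stalkMap x).hom.QuasiFinite := f.quasiFiniteAt x
  have h2 : (X.residue x).hom.QuasiFinite :=
    RingHom.QuasiFinite.of_finite (RingHom.Finite.of_surjective _ (X.residue_surjective _))
  have h3 := h2.comp h1
  rw [← CommRingCat.hom_comp, ← Scheme.residue_residueFieldMap, CommRingCat.hom_comp] at h3
  have h4 : (f.residueFieldMap x).hom.QuasiFinite := RingHom.QuasiFinite.of_comp h3
  let i : Algebra (Y.residueField (f x)) (X.residueField x) := (f.residueFieldMap x).hom.toAlgebra
  have : Algebra.QuasiFinite (Y.residueField (f x)) (X.residueField x) := h4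
  exact (Module.Finite.of_quasiFinite :
    Module.Finite (Y.residueField (f x)) (X.residueField x))

variable (k : Type u) [Field k] {X Y : Scheme.{u}} [X.Over (Spec (CommRingCat.of k))]
  [Y.Over (Spec (CommRingCat.of k))]

theorem charZero_residueField [CharZero k] (x : X) : CharZero (X.residueField x) := by
  let φ : k →+* X.residueField x :=
    ((Scheme.ΓSpecIso (CommRingCat.of k)).inv ≫ (X ↘ Spec (CommRingCat.of k)).appTop ≫ X.Γevaluation x).hom
  exact charZero_of_injective_ringHom φ.injective

omit [X.Over (Spec (CommRingCat.of k))] in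
theorem isSeparable_residueField [CharZero k] (f : X ⟶ Y) [IsFinite f] (x : X) :
    letI := (f.residueFieldMap x).hom.toAlgebra
    Algebra.IsSeparable (Y.residueField (f.base x)) (X.residueField x) := by
  let := (f.residueFieldMap x).hom.toAlgebra
  have h1 : Module.Finite (Y.residueField (f.base x)) (X.residueField x) := residueFieldMap_finite f x
  have h2 := charZero_residueField k (X := Y) (f.base x)
  infer_instance

variable [IsAlgClosed k] [IsIntegral X] [IsProper (X ↘ (Spec (CommRingCat.of k)))]
  [Smooth (X ↘ (Spec (CommRingCat.of k)))]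

/-- `deg Ω = -2 χ(O)` -/
theorem dg_omega (hdim : topologicalKrullDim X = 1) :
    dg k (Omega.sheaf (X ↘ Spec (CommRingCat.of k))) = - (2 * Curv2.euler k X (Coh.structureModule X)) := by
  have hinv := rank_one_iff.mpr (CurvesB.OmegaInv.isInvertible_omega (X ↘ Spec (CommRingCat.of k)) hdim)
  have hN : IsNoetherian X := isNoetherian k
  have h := (S1612.result k X ⟨inferInstance, inferInstance, inferInstance, hdim⟩
    (VarietyA.CurveFin.finrank_h0_structure k X)).2
  rw [dg_of_rank k hinv, h, K703.Chi.euler_structure k hdim]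
  ring

variable [IsIntegral Y] [IsProper (Y ↘ (Spec (CommRingCat.of k)))] [Smooth (Y ↘ (Spec (CommRingCat.of k)))]

variable {k}

omit [IsAlgClosed k] [IsIntegral X] [Smooth (X ↘ (Spec (CommRingCat.of k)))] [IsIntegral Y]
  [Smooth (Y ↘ (Spec (CommRingCat.of k)))] in
theorem exists_diffMap {f : X ⟶ Y} (hf : f ≫ (Y ↘ Spec (CommRingCat.of k)) = X ↘ Spec (CommRingCat.of k)) :
    ∃ c : (Scheme.Modules.pullback f).obj (Omega.sheaf (Y ↘ Spec (CommRingCat.of k))) ⟶
      Omega.sheaf (X ↘ Spec (CommRingCat.of k)),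
      OmegaSh.IsDiffCompat f (OmegaSh.dOmega (Y ↘ Spec (CommRingCat.of k)))
        (OmegaSh.dOmega (X ↘ Spec (CommRingCat.of k))) c :=
  (S9370.result (Y ↘ Spec (CommRingCat.of k)) (X ↘ Spec (CommRingCat.of k)) f (𝟙 _)
    (by rw [Category.comp_id, hf]) _ _ (S5005.result _) _ _ (S5005.result _)).exists

omit [IsAlgClosed k] in
/-- The comparison `c : f^* Ω_Y → Ω_X` is injective, and the degrees. -/
theorem main [CharZero k] {f : X ⟶ Y} {n : ℕ} (h : IsCov k f n) :
    ∃ c : (Scheme.Modules.pullback f).obj (Omega.sheaf (Y ↘ Spec (CommRingCat.of k))) ⟶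
      Omega.sheaf (X ↘ Spec (CommRingCat.of k)), Mono c ∧
      (Etale f → IsIso c) ∧ (Epi c → FormallyUnramified f) := by
  have := h.fin
  have := h.dom
  obtain ⟨c, hc⟩ := exists_diffMap h.ov
  refine ⟨c, ?_, fun h' => ?_, fun h' => ?_⟩
  · refine S13458.result k (X ↘ Spec (CommRingCat.of k)) (Y ↘ Spec (CommRingCat.of k)) f h.ov
      (h.crvX.dim.trans h.crvY.dim.symm) f.denseRange (isSeparable_residueField k f _) _ _ (S5005.result _) _ _
      (S5005.result _) c hc
  · exact S9776.result (Y ↘ Spec (CommRingCat.of k)) (X ↘ Spec (CommRingCat.of k)) f (𝟙 _)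
      (by rw [Category.comp_id, h.ov]) _ _ (S5005.result _) _ _ (S5005.result _) c hc
  · exact (S5015.result (Y ↘ Spec (CommRingCat.of k)) (X ↘ Spec (CommRingCat.of k)) f h.ov _ _ (S5005.result _) _ _
      (S5005.result _) c hc).mpr h'

/-- **Riemann–Hurwitz**: `deg f_* O = 0` for étale `f`. -/
theorem dg_push_of_etale [CharZero k] {f : X ⟶ Y} {n : ℕ} (h : IsCov k f n) [Etale f] :
    dg k ((Scheme.Modules.pushforward f).obj (Coh.structureModule X)) = 0 := by
  obtain ⟨c, h1, h2, -⟩ := main h
  have := h2 inferInstance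
  have e1 := dg_iso k (asIso c)
  have vY := vb_of_inv (CurvesB.OmegaInv.isInvertible_omega (Y ↘ Spec (CommRingCat.of k)) h.crvY.dim)
  rw [h.dg_pull vY, dg_omega k h.crvX.dim, dg_omega k h.crvY.dim] at e1
  rw [dg, h.euler_push (CurvesB.UnitCoh.isCoh_structureModule X).1, rk_of_rank h.rank]
  linarith

/-- **Riemann–Hurwitz**: `deg f_* O < 0` for flat `f` which is not étale. -/
theorem dg_push_of_not_etale [CharZero k] {f : X ⟶ Y} {n : ℕ} (h : IsCov k f n) [Flat f] (hf : ¬ Etale f) :
    dg k ((Scheme.Modules.pushforward f).obj (Coh.structureModule X)) < 0 := by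
  obtain ⟨c, h1, -, h3⟩ := main h
  have := h.fin
  have iX := CurvesB.OmegaInv.isInvertible_omega (X ↘ Spec (CommRingCat.of k)) h.crvX.dim
  have iY := CurvesB.OmegaInv.isInvertible_omega (Y ↘ Spec (CommRingCat.of k)) h.crvY.dim
  obtain ⟨v, r⟩ := vb_pull (f := f) (vb_of_inv iY)
  have rX := rk_of_rank (rank_one_iff.mpr iX)
  have rY := rk_of_rank (rank_one_iff.mpr iY)
  have vX := vb_of_inv iX
  have e1 := h.dg_pull (vb_of_inv iY)
  have e2 := dg_le_of_mono h.crvX c (coh_of_vb v) (coh_of_vb vX) (by rw [r, rX, rY])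
  rw [dg, h.euler_push (CurvesB.UnitCoh.isCoh_structureModule X).1, rk_of_rank h.rank]
  rw [e1, dg_omega k h.crvX.dim, dg_omega k h.crvY.dim] at e2
  by_contra hlt
  have e3 := isIso_of_mono h.crvX c (coh_of_vb v) (coh_of_vb vX) (by rw [r, rX, rY])
    (by rw [e1, dg_omega k h.crvX.dim, dg_omega k h.crvY.dim]; linarith)
  have := h3 inferInstance
  have := isLocNoeth h.crvY
  have : LocallyOfFinitePresentation f := LocallyOfFinitePresentation.iff_locallyOfFiniteType.mpr inferInstance
  exact hf (Etale.of_formallyUnramified_of_flat f)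

end K705.RamDeg
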