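import Groth.Agent.VBCurve.K705.JointMono
import Groth.Agent.VBCurve.K705.InvolX
import Groth.Agent.VBCurve.K706.Tier1

/-!
# The semilinear endomorphism of `f_* L` attached to an isomorphism `s^* L ≅ L` (helper705)
-/

set_option autoImplicit false
universe u

open CategoryTheory CategoryTheory.Limits AlgebraicGeometry TopologicalSpace Opposite

namespace K705.CycPush

open Groth.Agent Groth.Agent.Fdesc.PullbackStalk Groth.Agent.Fdesc.LocGen Groth.Agent.CycB.StalkExact
open Groth.Agent.VarietyA.DegRank K707.Base K707.Deg K707.Slope K707.Semi K707.TensL K705.Cov K705.GenGal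
open K705.DescSub K705.SumInv

section push

variable {X : Scheme.{u}} {s t : X ⟶ X}

/-- Inverse image along an automorphism is an equivalence. -/
noncomputable def pullEquiv (hst : s ≫ t = 𝟙 X) (hts : t ≫ s = 𝟙 X) : X.Modules ≌ X.Modules :=
  CategoryTheory.Equivalence.mk (Scheme.Modules.pullback s) (Scheme.Modules.pullback t)
    (Scheme.Modules.pullbackComp t s ≪≫ Scheme.Modules.pullbackCongr hts ≪≫ Scheme.Modules.pullbackId X).symm
    (Scheme.Modules.pullbackComp s t ≪≫ Scheme.Modules.pullbackCongr hst ≪≫ Scheme.Modules.pullbackId X)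

/-- `s_* = t^*` for inverse automorphisms `s`, `t`. -/
noncomputable def pushIso (hst : s ≫ t = 𝟙 X) (hts : t ≫ s = 𝟙 X) (L : X.Modules) :
    (Scheme.Modules.pushforward s).obj L ≅ (Scheme.Modules.pullback t).obj L :=
  (Adjunction.rightAdjointUniq (Scheme.Modules.pullbackPushforwardAdjunction s)
    (pullEquiv hst hts).toAdjunction).app L

end push

section T

variable {X Y : Scheme.{u}} {f : X ⟶ Y} {s : X ⟶ X} (hs : s ≫ f = f) {η : X} (hη : s.base η = η)

/-- The endomorphism `m ↦ ψ(s^* m)` of `f_* L`. -/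
noncomputable def T {L : X.Modules} (ψ : (Scheme.Modules.pullback s).obj L ⟶ L) :
    (Scheme.Modules.pushforward f).obj L ⟶ (Scheme.Modules.pushforward f).obj L :=
  (Scheme.Modules.pushforward f).map ((Scheme.Modules.pullbackPushforwardAdjunction s).homEquiv _ _ ψ) ≫
    (Scheme.Modules.pushforwardComp s f).hom.app L ≫ (Scheme.Modules.pushforwardCongr hs).hom.app L

theorem germ_T {L : X.Modules} (ψ : (Scheme.Modules.pullback s).obj L ⟶ L) (U : Y.Opens) (hU : η ∈ f ⁻¹ᵁ U)
    (m : Γ(L, f ⁻¹ᵁ U)) :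
    L.presheaf.germ (f ⁻¹ᵁ U) η hU ((T hs ψ).app U m) = Sg s hη ψ (L.presheaf.germ (f ⁻¹ᵁ U) η hU m) := by
  have e : f ⁻¹ᵁ U = s ⁻¹ᵁ (f ⁻¹ᵁ U) := by rw [← Scheme.Hom.comp_preimage, hs]
  let m' : Γ(L, s ⁻¹ᵁ (f ⁻¹ᵁ U)) :=
    ((Scheme.Modules.pullbackPushforwardAdjunction s).homEquiv _ _ ψ).app (f ⁻¹ᵁ U) m
  have hm' : m' = ψ.app (s ⁻¹ᵁ (f ⁻¹ᵁ U)) (pullSec s m) := homEquiv_app s ψ m
  have h1 : (T hs ψ).app U m = L.presheaf.map (eqToHom e).op m' := rfl
  refine (congrArg (L.presheaf.germ (f ⁻¹ᵁ U) η hU) h1).trans ?_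
  refine (TopCat.Presheaf.germ_res_apply L.presheaf (eqToHom e) η hU m').trans ?_
  refine Eq.trans ?_ (Sg_germ s hη ψ (f ⁻¹ᵁ U) hU m).symm
  exact congrArg (L.presheaf.germ (s ⁻¹ᵁ (f ⁻¹ᵁ U)) η (mem_pre s hη hU)) hm'

end T

section main

theorem Sg_injective {X : Scheme.{u}} {s : X ⟶ X} [IsIso s] {η : X} (hη : s.base η = η) {L : X.Modules}
    (ψ : (Scheme.Modules.pullback s).obj L ⟶ L) [Mono ψ] (x : L.presheaf.stalk η) (hx : Sg s hη ψ x = 0) :
    x = 0 := by
  have h1 : canAdd s L η (L.presheaf.stalkSpecializes (specializes_of_eq hη) x) = 0 := by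
    apply stalkLin_injective ψ η
    rw [map_zero]
    exact hx
  have h2 : L.presheaf.stalkSpecializes (specializes_of_eq hη) x = 0 := by
    apply canAdd_injective s L η (ConcreteCategory.bijective_of_isIso (s.stalkMap η))
    rw [h1, map_zero]
  have h3 : L.presheaf.stalkSpecializes (specializes_of_eq hη.symm)
      (L.presheaf.stalkSpecializes (specializes_of_eq hη) x) = x := by
    rw [← ConcreteCategory.comp_apply, TopCat.Presheaf.stalkSpecializes_comp]
    simp
  rw [← h3, h2, map_zero]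

variable {k : Type u} [Field k] {X Y : Scheme.{u}} [X.Over (Spec (CommRingCat.of k))]
  [Y.Over (Spec (CommRingCat.of k))] [IsIntegral X] [IsProper (X ↘ (Spec (CommRingCat.of k)))]
  [IsIntegral Y] [IsProper (Y ↘ (Spec (CommRingCat.of k)))] {f : X ⟶ Y} {n : ℕ}

/-- An automorphism `s` over `Y` such that `m ↦ ψ(s^* m)` is a scalar on `f_* L` is the identity. -/
theorem eq_id_of_scalar (h : IsCov k f n) (hn : 0 < n) {s : X ⟶ X} [IsIso s] (hs : s ≫ f = f)
    {L : X.Modules} (hL : FlatMod.IsFinLocFree L) (hL1 : 0 < rk L)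
    (ψ : (Scheme.Modules.pullback s).obj L ⟶ L) [Mono ψ] (c : k) (hc : T hs ψ = c • 𝟙 _) : s = 𝟙 X := by
  have := h.fin
  have := h.dom
  have hη : s.base (genericPoint X) = genericPoint X := map_genericPoint s
  have hξ := map_genericPoint f
  -- a section with nonzero germ
  have h1 : ¬ Subsingleton (((Scheme.Modules.pushforward f).obj L).presheaf.stalk (genericPoint Y)) := by
    intro h0
    have h2 := rk_eq_zero_of_subsingleton h0
    rw [h.rk_push hL] at h2
    have := Nat.mul_pos hn hL1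
    omega
  rw [not_subsingleton_iff_nontrivial] at h1
  obtain ⟨y, hy⟩ := exists_ne (0 : ((Scheme.Modules.pushforward f).obj L).presheaf.stalk (genericPoint Y))
  obtain ⟨W, hW, m₀, hm₀⟩ := ((Scheme.Modules.pushforward f).obj L).presheaf.exists_germ_eq y
  obtain ⟨U, hU, hξU, hUW⟩ := exists_isAffineOpen_mem_and_subset (x := genericPoint Y) (U := W) hW
  replace hUW : U ≤ W := hUW
  have hηU : genericPoint X ∈ f ⁻¹ᵁ U := by
    change f.base (genericPoint X) ∈ U
    rw [hξ]
    exact hξU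
  have hfU : IsAffineOpen (f ⁻¹ᵁ U) := hU.preimage f
  let m : Γ(L, f ⁻¹ᵁ U) := (((Scheme.Modules.pushforward f).obj L).presheaf.map (homOfLE hUW).op m₀ :
    Γ((Scheme.Modules.pushforward f).obj L, U))
  have hm : L.presheaf.germ (f ⁻¹ᵁ U) (genericPoint X) hηU m ≠ 0 := by
    intro h0
    have h2 : m = 0 := eq_zero_of_germ (coh_of_vb hL).1 (isTorsionFree_of_isFinLocFree hL) m fun _ => h0
    apply hy
    rw [← hm₀]
    have h3 := TopCat.Presheaf.germ_res_apply ((Scheme.Modules.pushforward f).obj L).presheaf (homOfLE hUW)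
      (genericPoint Y) hξU m₀
    rw [← h3]
    have h4 : ((Scheme.Modules.pushforward f).obj L).presheaf.map (homOfLE hUW).op m₀ = 0 := h2
    rw [h4, map_zero]
  -- the scalar
  let κ : X.presheaf.stalk (genericPoint X) := X.presheaf.germ (f ⁻¹ᵁ U) (genericPoint X) hηU
    (f.app U (Y.presheaf.map (homOfLE (le_top : U ≤ ⊤)).op (Coh.toGlobal (Y ↘ Spec (CommRingCat.of k)) c)))
  have hA : ∀ m' : Γ(L, f ⁻¹ᵁ U), Sg s hη ψ (L.presheaf.germ (f ⁻¹ᵁ U) (genericPoint X) hηU m') =
      κ • L.presheaf.germ (f ⁻¹ᵁ U) (genericPoint X) hηU m' := by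
    intro m'
    rw [← germ_T hs hη ψ U hηU m', hc]
    have h2 := KLin.smul_app_apply c (𝟙 ((Scheme.Modules.pushforward f).obj L)) U m'
    refine (congrArg (L.presheaf.germ (f ⁻¹ᵁ U) (genericPoint X) hηU) h2).trans ?_
    exact CycB.StalkExact.germ_smul (genericPoint X) hηU _ _
  have := isTorsionFree_of_isFinLocFree hL (genericPoint X)
  have hκ : κ ≠ 0 := by
    intro h0
    have h2 := hA m
    rw [h0, zero_smul] at h2
    exact hm (Sg_injective hη ψ _ h2)
  have hC : ∀ a : Γ(X, f ⁻¹ᵁ U), tau s hη (X.presheaf.germ (f ⁻¹ᵁ U) (genericPoint X) hηU a) =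
      X.presheaf.germ (f ⁻¹ᵁ U) (genericPoint X) hηU a := by
    intro a
    have h2 := hA (a • m)
    rw [CycB.StalkExact.germ_smul, Sg_smul, hA m, ← mul_smul, ← mul_smul] at h2
    have h3 := smul_left_injective _ hm h2
    refine mul_left_cancel₀ hκ ?_
    rw [mul_comm κ (tau s hη _)]
    exact h3
  refine eq_of_tau hs (Category.id_comp f) hη rfl ?_
  ext x
  refine Eq.trans ?_ (tau_of_eq_id rfl rfl x).symm
  have : Nonempty ((f ⁻¹ᵁ U : X.Opens) : Scheme.{u}) := ⟨⟨_, hηU⟩⟩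
  have := functionField_isFractionRing_of_isAffineOpen X (f ⁻¹ᵁ U) hfU
  obtain ⟨a, b, hb, hab⟩ := IsFractionRing.div_surjective (A := Γ(X, f ⁻¹ᵁ U)) (K := X.functionField) x
  have hb0 : algebraMap Γ(X, f ⁻¹ᵁ U) X.functionField b ≠ 0 :=
    IsLocalization.to_map_ne_zero_of_mem_nonZeroDivisors _ le_rfl hb
  have h4 : (x : X.functionField) * algebraMap Γ(X, f ⁻¹ᵁ U) X.functionField b =
      algebraMap Γ(X, f ⁻¹ᵁ U) X.functionField a := by
    rw [← hab, div_mul_cancel₀ _ hb0]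
  have h5 : tau s hη (x : X.functionField) * algebraMap Γ(X, f ⁻¹ᵁ U) X.functionField b =
      algebraMap Γ(X, f ⁻¹ᵁ U) X.functionField a := by
    have h6 : tau s hη (algebraMap Γ(X, f ⁻¹ᵁ U) X.functionField b) =
        algebraMap Γ(X, f ⁻¹ᵁ U) X.functionField b := hC b
    have h7 : tau s hη (algebraMap Γ(X, f ⁻¹ᵁ U) X.functionField a) =
        algebraMap Γ(X, f ⁻¹ᵁ U) X.functionField a := hC a
    rw [← h7, ← h4, map_mul, h6]
  exact mul_right_cancel₀ hb0 (h5.trans h4.symm)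

end main

end K705.CycPush
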