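import Groth.Agent.VBCurve.K705.GenGal2
import Groth.Agent.PerfC.FlatExact

/-!
# Galois descent of subbundles of `f^* E` for a finite flat Galois cover of curves (helper705)
-/

set_option autoImplicit false
universe u

open CategoryTheory CategoryTheory.Limits AlgebraicGeometry TopologicalSpace Opposite

namespace K705.DescSub

open Groth.Agent Groth.Agent.Fdesc.PullbackStalk Groth.Agent.Fdesc.LocGen Groth.Agent.CycB.StalkExact
open Groth.Agent.VarietyA.DegRank K707.Base K707.Deg K707.Slope K707.Semi K707.TensL K705.Cov K705.GenGal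

section generic

variable {X : Scheme.{u}} [IsIntegral X]

/-- A section of a torsion-free module with zero generic germ is zero. -/
theorem eq_zero_of_germ {N : X.Modules} (hq : Coh.IsQCoh N) (hN : TorSh.IsTorsionFree N) {U : X.Opens} (s : Γ(N, U))
    (h : ∀ hU : genericPoint X ∈ U, N.presheaf.germ U (genericPoint X) hU s = 0) : s = 0 := by
  refine Ega1.ModGerm.section_eq_zero N s fun y hy => ?_
  have hU : genericPoint X ∈ U := mem_of_mem hy
  have h1 : s = 0 := K653.RatEmb.germ_injective hq hN (genericPoint X) hU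
    ((h hU).trans (map_zero (Ega1.ModGerm.germ N U (genericPoint X) hU)).symm)
  rw [h1, map_zero]

/-- A morphism to a torsion-free module which is zero on the generic stalk is zero. -/
theorem hom_eq_zero {M N : X.Modules} (φ : M ⟶ N) (hq : Coh.IsQCoh N) (hN : TorSh.IsTorsionFree N)
    (h : ∀ m, stalkLin φ (genericPoint X) m = 0) : φ = 0 := by
  apply Scheme.Modules.hom_ext
  intro U
  ext s
  refine eq_zero_of_germ hq hN _ fun hU => ?_
  exact (stalkLin_germ φ (genericPoint X) hU s).symm.trans (h _)

end generic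

variable {k : Type u} [Field k] {X Y : Scheme.{u}} [X.Over (Spec (CommRingCat.of k))]
  [Y.Over (Spec (CommRingCat.of k))] [IsIntegral X] [IsProper (X ↘ (Spec (CommRingCat.of k)))]
  [IsIntegral Y] [IsProper (Y ↘ (Spec (CommRingCat.of k)))] {f : X ⟶ Y} {n : ℕ}

variable {ι : Type*} {σ : ι → (X ⟶ X)} (hσ : ∀ a, σ a ≫ f = f)
  (hη : ∀ a, (σ a).base (genericPoint X) = genericPoint X)

include hη in
/-- **Galois descent of subbundles.** -/
theorem exists_descent (h : IsCov k f n) [Flat f] [Fintype ι] [DecidableEq ι] (hinj : Function.Injective σ)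
    (hcard : Fintype.card ι = n) {i₀ : ι} (h₀ : σ i₀ = 𝟙 X) {E : Y.Modules} (hE : FlatMod.IsFinLocFree E)
    {F : X.Modules} (i : F ⟶ (Scheme.Modules.pullback f).obj E) [Mono i]
    (hC : FlatMod.IsFinLocFree (cokernel i))
    (hst : ∀ a, a ≠ i₀ → ∃ j : (Scheme.Modules.pullback (σ a)).obj F ⟶ F,
      j ≫ i = (Scheme.Modules.pullback (σ a)).map i ≫ lam (hσ a) E) :
    ∃ (F' : Y.Modules) (i' : F' ⟶ E) (e : (Scheme.Modules.pullback f).obj F' ≅ F),
      Mono i' ∧ e.hom ≫ i = (Scheme.Modules.pullback f).map i' := by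
  have := h.fin
  have hfl : PreservesFiniteLimits (Scheme.Modules.pullback f) := PerfC.FlatExact.preservesFiniteLimits_pullback f
  -- `γ : E → f_* C` and its image
  let γ : E ⟶ (Scheme.Modules.pushforward f).obj (cokernel i) :=
    (Scheme.Modules.pullbackPushforwardAdjunction f).unit.app E ≫
      (Scheme.Modules.pushforward f).map (cokernel.π i)
  have vC' := h.vb_push hC
  obtain ⟨Q, q, m, hq, hm, hqm, cQ, -⟩ := exists_factor h.crvY γ (coh_of_vb hE) (coh_of_vb vC')
  have vQ := vb_of_mono h.crvY m cQ vC'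
  have hS := kernel_shortExact q
  have hS' := hS.map_of_exact (Scheme.Modules.pullback f)
  have hmι := hS'.mono_f
  obtain ⟨vQ', -⟩ := vb_pull (f := f) vQ
  -- `F → f^* Q` vanishes
  have hD : ∀ a, a ≠ i₀ → ∀ w, w ∈ LinearMap.range (stalkLin i (genericPoint X)) →
      Sg (σ a) (hη a) (lam (hσ a) E) w ∈ LinearMap.range (stalkLin i (genericPoint X)) := by
    rintro a ha _ ⟨x, rfl⟩
    obtain ⟨j, hj⟩ := hst a ha
    exact ⟨Sg (σ a) (hη a) j x, Sg_naturality (σ a) (hη a) i j (lam (hσ a) E) hj x⟩
  have hdesc := descent hσ hη h hinj hcard h₀ _ hD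
  have hψ : i ≫ (Scheme.Modules.pullback f).map q = 0 := by
    refine hom_eq_zero _ (coh_of_vb vQ').1 (isTorsionFree_of_isFinLocFree vQ') fun x => ?_
    rw [stalkLin_comp]
    change stalkLin ((Scheme.Modules.pullback f).map q) (genericPoint X) (stalkLin i (genericPoint X) x) = 0
    have hx : stalkLin i (genericPoint X) x ∈
        Submodule.span (X.presheaf.stalk (genericPoint X)) (canAdd f E (genericPoint X) ''
        {v | canAdd f E (genericPoint X) v ∈ LinearMap.range (stalkLin i (genericPoint X))}) := by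
      rw [← hdesc]
      exact ⟨x, rfl⟩
    generalize stalkLin i (genericPoint X) x = w at hx
    rw [← LinearMap.mem_ker]
    refine Submodule.span_le.mpr ?_ hx
    rintro _ ⟨v, ⟨x', hv⟩, rfl⟩
    obtain ⟨U, hU, s, rfl⟩ := E.presheaf.exists_germ_eq v
    have h1 : (cokernel.π i).app (f ⁻¹ᵁ U) (pullSec f s) = 0 := by
      refine eq_zero_of_germ (coh_of_vb hC).1 (isTorsionFree_of_isFinLocFree hC) _ fun hU' => ?_
      refine (stalkLin_germ (cokernel.π i) (genericPoint X) hU' _).symm.trans ?_
      have h3 : stalkLin (cokernel.π i) (genericPoint X) (stalkLin i (genericPoint X) x') = 0 := by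
        have h4 : stalkLin (i ≫ cokernel.π i) (genericPoint X) x' = 0 := by
          rw [cokernel.condition]
          change ((stalkFun (genericPoint X)).map (0 : F ⟶ cokernel i)).hom x' = 0
          rw [Functor.map_zero]
          rfl
        rw [stalkLin_comp] at h4
        exact h4
      rw [hv] at h3
      refine Eq.trans ?_ h3
      exact congrArg (stalkLin (cokernel.π i) (genericPoint X)) (canAdd_germ f E (genericPoint X) U hU s).symm
    have h2 : q.app U s = 0 := by
      apply Smoothlim.ModKer.app_injective_of_mono m U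
      rw [map_zero]
      have h3 : (q ≫ m).app U s = γ.app U s := by rw [hqm]
      exact h3.trans h1
    change stalkLin ((Scheme.Modules.pullback f).map q) (genericPoint X)
      (canAdd f E (genericPoint X) (E.presheaf.germ U (f.base (genericPoint X)) hU s)) = 0
    refine (congrArg (stalkLin ((Scheme.Modules.pullback f).map q) (genericPoint X))
      (canAdd_germ f E (genericPoint X) U hU s)).trans ?_
    refine (stalkLin_germ ((Scheme.Modules.pullback f).map q) (genericPoint X) hU _).trans ?_
    have h5 : ((Scheme.Modules.pullback f).map q).app (f ⁻¹ᵁ U) (pullSec f s) = 0 := by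
      rw [pullback_map_pullSec, h2]
      exact map_zero (((Scheme.Modules.pullbackPushforwardAdjunction f).unit.app Q).app U).hom
    exact (congrArg (((Scheme.Modules.pullback f).obj Q).presheaf.germ (f ⁻¹ᵁ U) (genericPoint X) hU) h5).trans
      (map_zero _)
  obtain ⟨ρ, hρ⟩ : ∃ ρ : F ⟶ (Scheme.Modules.pullback f).obj (kernel q),
      ρ ≫ (Scheme.Modules.pullback f).map (kernel.ι q) = i :=
    ⟨hS'.exact.lift i hψ, hS'.exact.lift_f i hψ⟩
  have hz : (Scheme.Modules.pullback f).map (kernel.ι q) ≫ cokernel.π i = 0 := by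
    apply ((Scheme.Modules.pullbackPushforwardAdjunction f).homEquiv _ _).injective
    rw [Adjunction.homEquiv_naturality_left, Adjunction.homEquiv_unit, Adjunction.homEquiv_unit]
    change kernel.ι q ≫ γ = _
    rw [← hqm, kernel.condition_assoc, zero_comp, Functor.map_zero, comp_zero]
  obtain ⟨θ, hθ⟩ : ∃ θ : (Scheme.Modules.pullback f).obj (kernel q) ⟶ F,
      θ ≫ i = (Scheme.Modules.pullback f).map (kernel.ι q) :=
    ⟨(cokernel_shortExact i).exact.lift _ hz, (cokernel_shortExact i).exact.lift_f _ hz⟩
  refine ⟨kernel q, kernel.ι q, ⟨θ, ρ, ?_, ?_⟩, inferInstance, hθ⟩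
  · rw [← cancel_mono ((Scheme.Modules.pullback f).map (kernel.ι q)), Category.assoc, Category.id_comp]
    exact (congrArg (θ ≫ ·) hρ).trans hθ
  · rw [← cancel_mono i, Category.assoc, hθ, hρ, Category.id_comp]

end K705.DescSub
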