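import Groth.Agent.VBCurve.K707.Inv

/-!
# Nilpotent twisted endomorphisms `α : E → T E`, `α ∘ α = 0` (helper705)
-/

set_option autoImplicit false
universe u v

open CategoryTheory CategoryTheory.Limits

namespace K705.Nilp

variable {A : Type u} [Category.{v} A] [Abelian A] (T : A ⥤ A)

theorem square_zero [T.PreservesZeroMorphisms] {L E : A} (j : L ⟶ E) (β : cokernel j ⟶ T.obj L) :
    (cokernel.π j ≫ β ≫ T.map j) ≫ T.map (cokernel.π j ≫ β ≫ T.map j) = 0 := by
  have h : T.map j ≫ T.map (cokernel.π j) = 0 := by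
    rw [← T.map_comp, cokernel.condition, T.map_zero]
  simp only [T.map_comp, Category.assoc, reassoc_of% h, zero_comp, comp_zero]

theorem ne_zero [PreservesFiniteLimits T] {L E : A} (j : L ⟶ E) [Mono j] (β : cokernel j ⟶ T.obj L)
    (hβ : β ≠ 0) : cokernel.π j ≫ β ≫ T.map j ≠ 0 := by
  intro h
  apply hβ
  rw [← cancel_epi (cokernel.π j), ← cancel_mono (T.map j)]
  simpa using h

theorem exists_factor [PreservesFiniteLimits T] [T.PreservesZeroMorphisms] {E : A} (α : E ⟶ T.obj E)
    (hα : α ≫ T.map α = 0) :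
    ∃ β : cokernel (kernel.ι α) ⟶ T.obj (kernel α), cokernel.π (kernel.ι α) ≫ β ≫ T.map (kernel.ι α) = α := by
  have hl : IsLimit (KernelFork.ofι (T.map (kernel.ι α)) (by rw [← T.map_comp, kernel.condition, T.map_zero])) :=
    isLimitForkMapOfIsLimit' T (kernel.condition α) (kernelIsKernel α)
  obtain ⟨γ, hγ⟩ := KernelFork.IsLimit.lift' hl α hα
  change γ ≫ T.map (kernel.ι α) = α at hγ
  have h0 : kernel.ι α ≫ γ = 0 := by
    rw [← cancel_mono (T.map (kernel.ι α)), Category.assoc, zero_comp]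
    exact (congrArg (fun z => kernel.ι α ≫ z) hγ).trans (kernel.condition α)
  refine ⟨cokernel.desc _ γ h0, ?_⟩
  rw [cokernel.π_desc_assoc, hγ]

end K705.Nilp
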