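import Groth.Agent.VBCurve.K705.Setup
import Groth.Agent.VBCurve.K708.PtTwist
import Groth.Agent.VarietyB.DegPhi
import Groth.Agent.VarietyB.HHPush
import Groth.Agent.Sga67.HomInvB
import Groth.Agent.Krr.H498.PushRes
import Groth.Agent.PerfB.FibreConc
import Groth.Agent.S2288

/-!
# Finite flat morphisms of curves: ranks and degrees of direct and inverse images (helper705)

`IsCov k f n`: `f : X ⟶ Y` is a finite dominant `k`-morphism of integral proper curves with principal ideal local rings,
`f_* O` of rank `n`.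

* `IsCov.push_numbers`: `rk f_* G = n · rk G`, `deg f_* G = deg G + rk G · deg f_* O`;
* `IsCov.pull_numbers`: `rk f^* E = rk E`, `deg f^* E = n · deg E`.
-/

set_option autoImplicit false
universe u

open CategoryTheory CategoryTheory.Limits AlgebraicGeometry TopologicalSpace Opposite

namespace K705.Cov

open Groth.Agent Groth.Agent.VarietyA.DegRank K707.Base K707.Deg K707.Slope K707.Semi K707.TensL
open Groth.Agent.VarietyB.ProjForm Groth.Agent.VarietyB.TensCoh

variable (k : Type u) [Field k] {X Y : Scheme.{u}} [X.Over (Spec (CommRingCat.of k))]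
  [Y.Over (Spec (CommRingCat.of k))]

/-- A finite dominant morphism of curves with `f_* O` locally free of rank `n`. -/
structure IsCov (f : X ⟶ Y) (n : ℕ) : Prop where
  ov : f ≫ (Y ↘ (Spec (CommRingCat.of k))) = X ↘ (Spec (CommRingCat.of k))
  fin : IsFinite f
  dom : IsDominant f
  crvX : Crv k X
  crvY : Crv k Y
  rank : FlatMod.IsFinLocFreeOfRank n ((Scheme.Modules.pushforward f).obj (Coh.structureModule X))

variable {k}
variable [IsIntegral X] [IsProper (X ↘ (Spec (CommRingCat.of k)))]
  [IsIntegral Y] [IsProper (Y ↘ (Spec (CommRingCat.of k)))]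
  {f : X ⟶ Y} {n : ℕ} (h : IsCov k f n)

include h

omit [IsIntegral X] [IsProper (X ↘ (Spec (CommRingCat.of k)))] [IsIntegral Y] in
theorem IsCov.coh_push {G : X.Modules} (hG : Coh.IsCoh G) : Coh.IsCoh ((Scheme.Modules.pushforward f).obj G) := by
  have := h.fin
  have := isNoetherian k (X := Y)
  exact Krr.H498.PushRes.isCoh_pushforward f hG

theorem IsCov.vb_push {G : X.Modules} (hG : FlatMod.IsFinLocFree G) :
    FlatMod.IsFinLocFree ((Scheme.Modules.pushforward f).obj G) := by
  have := h.dom
  have hq : Coh.IsQCoh G := (coh_of_vb hG).1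
  exact vb_of_torsionFree h.crvY (h.coh_push (coh_of_vb hG))
    (S2288.result f G (isTorsionFree_of_isFinLocFree hG))

omit [IsIntegral X] [IsProper (X ↘ (Spec (CommRingCat.of k)))] [IsIntegral Y]
  [IsProper (Y ↘ (Spec (CommRingCat.of k)))] in
theorem IsCov.euler_push {G : X.Modules} (hG : Coh.IsQCoh G) :
    Curv2.euler k Y ((Scheme.Modules.pushforward f).obj G) = Curv2.euler k X G := by
  have := h.fin
  exact VarietyB.HHPush.euler_push f k h.ov G hG

omit [IsIntegral X] [IsProper (X ↘ (Spec (CommRingCat.of k)))] [IsIntegral Y]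
  [IsProper (Y ↘ (Spec (CommRingCat.of k)))] in
theorem IsCov.push_shortExact {S : ShortComplex X.Modules} (hS : S.ShortExact)
    (h₂ : Coh.IsQCoh S.X₂) (h₃ : Coh.IsQCoh S.X₃) :
    (S.map (Scheme.Modules.pushforward f)).ShortExact := by
  have := h.fin
  exact Sga67.HomInvB.shortExact_push f hS h₂ h₃

omit h in
theorem vb_pull {E : Y.Modules} (hE : FlatMod.IsFinLocFree E) :
    FlatMod.IsFinLocFree ((Scheme.Modules.pullback f).obj E) ∧ rk ((Scheme.Modules.pullback f).obj E) = rk E := by
  have h1 := PerfB.FibreConc.isFinLocFreeOfRank_pullback f (isFinLocFreeOfRank_rk hE)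
  exact ⟨isFinLocFree_of_rank h1, rk_of_rank h1⟩

theorem IsCov.dg_pull {E : Y.Modules} (hE : FlatMod.IsFinLocFree E) :
    dg k ((Scheme.Modules.pullback f).obj E) = n * dg k E := by
  have hP := h.rank
  have hb : HasBases E := .of_isFinLocFree hE
  obtain ⟨v, r⟩ := vb_pull (f := f) hE
  have hPc := isCoh_of_rank hP
  have e1 : Curv2.euler k X ((Scheme.Modules.pullback f).obj E) =
      Curv2.euler k Y (CohB1.tensorMod E ((Scheme.Modules.pushforward f).obj (Coh.structureModule X))) := by
    rw [← h.euler_push (coh_of_vb v).1]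
    exact (VarietyB.DegPhi.euler_congr k (projIsoUnit f hb)).symm
  have e2 := h.euler_push (CurvesB.UnitCoh.isCoh_structureModule X).1
  rw [dg, e1, r, euler_eq_dg k, dg_tensor k h.crvY.dim hP (coh_of_vb hE), rk_tensor hP (coh_of_vb hE), ← e2,
    euler_eq_dg k ((Scheme.Modules.pushforward f).obj (Coh.structureModule X)), rk_of_rank hP]
  push_cast
  ring

theorem IsCov.rk_push {G : X.Modules} (hG : FlatMod.IsFinLocFree G) :
    rk ((Scheme.Modules.pushforward f).obj G) = n * rk G := by
  obtain ⟨N, hN, hd⟩ := K708.PtTwist.exists_inv_pos h.crvY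
  have r1 := rank_one_iff.mpr hN
  have vN := isFinLocFree_of_rank r1
  have hb : HasBases N := .of_isFinLocFree vN
  obtain ⟨v, r⟩ := vb_pull (f := f) vN
  have hdN := h.dg_pull vN
  have rp := PerfB.FibreConc.isFinLocFreeOfRank_pullback f r1
  have vG' := h.vb_push hG
  have cT : Coh.IsCoh (CohB1.tensorMod ((Scheme.Modules.pullback f).obj N) G) := by
    have := isLocNoeth h.crvX
    exact coh_of_vb (vb_tensor v hG)
  have e1 : Curv2.euler k Y (CohB1.tensorMod N ((Scheme.Modules.pushforward f).obj G)) =
      Curv2.euler k X (CohB1.tensorMod ((Scheme.Modules.pullback f).obj N) G) := by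
    rw [← h.euler_push cT.1]
    exact VarietyB.DegPhi.euler_congr k (projIso f hb G)
  have e2 : Curv2.euler k Y ((Scheme.Modules.pushforward f).obj G) = Curv2.euler k X G :=
    h.euler_push (coh_of_vb hG).1
  have e3 : Curv2.euler k Y (CohB1.tensorMod N ((Scheme.Modules.pushforward f).obj G)) =
      Curv2.euler k Y ((Scheme.Modules.pushforward f).obj G) +
        rk ((Scheme.Modules.pushforward f).obj G) * dg k N := by
    rw [VarietyB.DegPhi.euler_congr k (Ega2.Tens.swap N _), euler_eq_dg k,
      dg_tensor k h.crvY.dim r1 (coh_of_vb vG'), rk_tensor r1 (coh_of_vb vG'),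
      euler_eq_dg k ((Scheme.Modules.pushforward f).obj G)]
    push_cast
    ring
  have e4 : Curv2.euler k X (CohB1.tensorMod ((Scheme.Modules.pullback f).obj N) G) =
      Curv2.euler k X G + rk G * (n * dg k N) := by
    rw [VarietyB.DegPhi.euler_congr k (Ega2.Tens.swap _ G), euler_eq_dg k,
      dg_tensor k h.crvX.dim rp (coh_of_vb hG), rk_tensor rp (coh_of_vb hG), hdN, euler_eq_dg k G]
    push_cast
    ring
  rw [e3, e4, e2] at e1
  have e5 : (rk ((Scheme.Modules.pushforward f).obj G) : ℤ) * dg k N = (n * rk G) * dg k N := by linarith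
  have e6 := mul_right_cancel₀ hd.ne' e5
  exact_mod_cast e6

theorem IsCov.dg_push {G : X.Modules} (hG : FlatMod.IsFinLocFree G) :
    dg k ((Scheme.Modules.pushforward f).obj G) =
      dg k G + rk G * dg k ((Scheme.Modules.pushforward f).obj (Coh.structureModule X)) := by
  have e1 := h.euler_push (coh_of_vb hG).1
  have e2 := h.euler_push (CurvesB.UnitCoh.isCoh_structureModule X).1
  rw [dg, e1, h.rk_push hG, euler_eq_dg k G, ← e2,
    euler_eq_dg k ((Scheme.Modules.pushforward f).obj (Coh.structureModule X)), rk_of_rank h.rank]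
  push_cast
  ring

end K705.Cov
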