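import Groth.Agent.VBCurve.K707.Base
import Groth.Agent.VarietyA.TwistSeq
import Groth.Agent.VarietyA.RegPoint

/-!
# Sections of vector bundles vanishing at a point (helper705)

`exists_section_sub_mem`: if `M` has rank `n`, `h⁰(M) ≥ n` and no nonzero section vanishes at the closed point `x`
then `H⁰(M) → M_x / m_x M_x` is surjective (over an algebraically closed field).
-/

set_option autoImplicit false
universe u

open CategoryTheory CategoryTheory.Limits AlgebraicGeometry TopologicalSpace Opposite Module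

namespace K705.EvFib

open Groth.Agent K707.Base
open Groth.Agent.VarietyA.TwistDown Groth.Agent.VarietyA.TwistSeq Groth.Agent.VarietyA
open Groth.Agent.Ega1.ModGerm

variable {k : Type u} [Field k] {X : Scheme.{u}} [X.Over (Spec (CommRingCat.of k))]

/-- `h⁰(M / M(-x)) ≤ n` for `M` of rank `n` and `x` closed, over an algebraically closed field. -/
theorem finrank_quot_le [IsAlgClosed k] [LocallyOfFiniteType (X ↘ (Spec (CommRingCat.of k)))]
    {M : X.Modules} {n : ℕ} (hM : FlatMod.IsFinLocFreeOfRank n M) {x : X} (hx : IsClosed ({x} : Set X)) :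
    Module.Finite k (Coh.HH X (quot M x) 0) ∧ finrank k (Coh.HH X (quot M x) 0) ≤ n := by
  obtain ⟨b⟩ := exists_basis hM x
  let g : Fin n → Coh.HH X (quot M x) 0 := fun i => (germQ M hx).symm (qmap M x (b i))
  have hspan : Submodule.span k (Set.range g) = ⊤ := by
    rw [eq_top_iff]
    rintro w -
    obtain ⟨m, hm⟩ := qmap_surjective M x (germQ M hx w)
    have hc : ∀ i, ∃ c : k, b.repr m i - Curv2.stalkMap k X x c ∈ IsLocalRing.maximalIdeal (X.presheaf.stalk x) :=
      fun i => RegPoint.exists_sub_mem_maximalIdeal k X hx _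
    choose c hc using hc
    have hw : w = ∑ i, c i • g i := by
      apply (germQ M hx).injective
      rw [map_sum, ← hm]
      simp_rw [germQ_smul, g, AddEquiv.apply_symm_apply, ← map_smul]
      rw [← map_sum, ← sub_eq_zero, ← map_sub, qmap_eq_zero_iff]
      have h1 : m - ∑ i, Curv2.stalkMap k X x (c i) • b i =
          ∑ i, (b.repr m i - Curv2.stalkMap k X x (c i)) • b i := by
        conv_lhs => rw [← b.sum_repr m]
        rw [← Finset.sum_sub_distrib]
        simp_rw [sub_smul]
      rw [h1]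
      exact Submodule.sum_mem _ fun i _ => Submodule.smul_mem_smul (hc i) trivial
    rw [hw]
    exact Submodule.sum_mem _ fun i _ => Submodule.smul_mem _ _ (Submodule.subset_span ⟨i, rfl⟩)
  have hf : Module.Finite k (Coh.HH X (quot M x) 0) := by
    rw [Module.finite_def, ← hspan]
    exact Submodule.fg_span (Set.finite_range g)
  refine ⟨hf, ?_⟩
  rw [← finrank_top k (Coh.HH X (quot M x) 0), ← hspan]
  exact (finrank_range_le_card g).trans (by simp)

/-- the section of `M` given by an element of `H⁰(M)` -/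
noncomputable def sec (M : X.Modules) (s : Coh.HH X M 0) : Γ(M, ⊤) := H0Equiv.hZeroEquiv M s

/-- the germ at `x` of an element of `H⁰(M)` -/
noncomputable def g0 (M : X.Modules) (x : X) : Coh.HH X M 0 →+ M.presheaf.stalk x :=
  (Groth.Agent.Ega1.ModGerm.germ M ⊤ x trivial).comp
    (show Coh.HH X M 0 →+ Γ(M, ⊤) from (H0Equiv.hZeroEquiv M).toAddMonoidHom)

omit [X.Over (Spec (CommRingCat.of k))] in
theorem g0_apply (M : X.Modules) (x : X) (s : Coh.HH X M 0) :
    g0 M x s = M.presheaf.germ ⊤ x trivial (sec M s) := rfl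

theorem g0_smul (M : X.Modules) (x : X) (c : k) (s : Coh.HH X M 0) :
    g0 M x (c • s) = Curv2.stalkMap k X x c • g0 M x s := by
  change germ M ⊤ x trivial (H0Equiv.hZeroEquiv M
    (Coh.toGlobal (X ↘ Spec (CommRingCat.of k)) c • s)) = _
  rw [H0Equiv.hZeroEquiv_smul]
  exact germ_smul M ⊤ x trivial _ _

/-- the projection `M → M / M(-x)` -/
noncomputable abbrev pr (M : X.Modules) (x : X) : M ⟶ quot M x := cokernel.π (vanish M x).ι

omit [X.Over (Spec (CommRingCat.of k))] in
theorem germQ_hmap (M : X.Modules) {x : X} (hx : IsClosed ({x} : Set X)) (s : Coh.HH X M 0) :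
    germQ M hx (CohqB.HSeqMod.hmap (pr M x) 0 s) = qmap M x (g0 M x s) := by
  have h1 : H0Equiv.hZeroEquiv (quot M x) (CohqB.HSeqMod.hmap (pr M x) 0 s) =
      (cokernel.π (vanish M x).ι).app ⊤ (H0Equiv.hZeroEquiv M s) :=
    (Sheaf.H.equiv₀_naturality (H0Equiv.isTerminalTop X)
      ((CohqB.ToSheafExact.toAbF X).map (cokernel.π (vanish M x).ι)) s).symm
  have h2 : qmap M x (g0 M x s) =
      germ (quot M x) ⊤ x trivial ((cokernel.π (vanish M x).ι).app ⊤ (H0Equiv.hZeroEquiv M s)) :=
    qmap_germ M x ⊤ trivial (H0Equiv.hZeroEquiv M s)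
  rw [h2, ← h1]
  rfl

/-- If no nonzero section of `M` vanishes at `x` and `h⁰ ≥ rank` then `H⁰(M) → M / m_x M` is surjective. -/
theorem exists_section_sub_mem [IsAlgClosed k] [IsProper (X ↘ (Spec (CommRingCat.of k)))]
    {M : X.Modules} {n : ℕ} (hM : FlatMod.IsFinLocFreeOfRank n M) {x : X} (hx : IsClosed ({x} : Set X))
    (hn : n ≤ finrank k (Coh.HH X M 0)) (hinj : ∀ s : Coh.HH X M 0, g0 M x s ∈ mStalk M x → s = 0) :
    finrank k (Coh.HH X M 0) = n ∧
    ∀ m : M.presheaf.stalk x, ∃ s : Coh.HH X M 0, m - g0 M x s ∈ mStalk M x := by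
  obtain ⟨hf, hle⟩ := finrank_quot_le (k := k) hM hx
  have hfM := Groth.Agent.S0002.result k X M (isCoh_of_rank hM) 0
  let f : Coh.HH X M 0 →ₗ[k] Coh.HH X (quot M x) 0 := HLin.hmapₗ k (pr M x) 0
  have hfi : Function.Injective f := by
    rw [injective_iff_map_eq_zero]
    intro s hs
    apply hinj
    rw [← qmap_eq_zero_iff, ← germQ_hmap M hx]
    change germQ M hx (f s) = 0
    rw [hs, map_zero]
  have h1 : finrank k (Coh.HH X M 0) ≤ finrank k (Coh.HH X (quot M x) 0) :=
    LinearMap.finrank_le_finrank_of_injective hfi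
  refine ⟨le_antisymm (h1.trans hle) hn, fun m => ?_⟩
  have hfs : Function.Surjective f :=
    (LinearMap.injective_iff_surjective_of_finrank_eq_finrank (le_antisymm h1 (hle.trans hn))).mp hfi
  obtain ⟨s, hs⟩ := hfs ((germQ M hx).symm (qmap M x m))
  refine ⟨s, ?_⟩
  rw [← qmap_eq_zero_iff, map_sub, sub_eq_zero, ← germQ_hmap M hx]
  change _ = germQ M hx (f s)
  rw [hs, AddEquiv.apply_symm_apply]

end K705.EvFib
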