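import Mathlib.Data.Int.GCD
import Mathlib.Tactic.Linarith
import Mathlib.Tactic.Ring
import Mathlib.Tactic.LinearCombination
import Mathlib.Tactic.Positivity
import Mathlib.Tactic.NormNum

/-!
# Farey parents of a reduced fraction
-/

set_option autoImplicit false

namespace K705.Farey

/-- Farey parents: for `r ≥ 2` and `d` coprime to `r` there are `(r₁, d₁)`, `(r₂, d₂)` with
`0 < r₁, r₂`, sum `(r, d)` and `r₁ d₂ - r₂ d₁ = 1`. -/
theorem exists_parents (r : ℕ) (d : ℤ) (hr : 2 ≤ r) (h : Int.gcd d (r : ℤ) = 1) :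
    ∃ (r₁ r₂ : ℕ) (d₁ d₂ : ℤ), 0 < r₁ ∧ 0 < r₂ ∧ r₁ + r₂ = r ∧ d₁ + d₂ = d ∧
      (r₁ : ℤ) * d₂ - r₂ * d₁ = 1 := by
  have hr0 : (0 : ℤ) < r := by positivity
  -- Bezout
  obtain ⟨a, b, hab⟩ : ∃ a b : ℤ, d * a + r * b = 1 := by
    refine ⟨Int.gcdA d r, Int.gcdB d r, ?_⟩
    rw [← Int.gcd_eq_gcd_ab, h]; rfl
  let m : ℤ := a % r
  have hm0 : 0 ≤ m := Int.emod_nonneg a hr0.ne'
  have hm1 : m < r := Int.emod_lt_of_pos a hr0
  have ha : a = m + r * (a / r) := (Int.emod_add_mul_ediv a r).symm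
  have key : m * d = 1 + r * (-(b + d * (a / r))) := by
    have h1 : d * (m + r * (a / r)) + r * b = 1 := by rw [← ha]; exact hab
    linarith
  have hmpos : 0 < m := by
    rcases hm0.lt_or_eq with h0 | h0
    · exact h0
    · exfalso
      rw [← h0, zero_mul] at key
      have : (r : ℤ) ∣ 1 := ⟨b + d * (a / r), by linarith⟩
      have h2 : (r : ℤ) ≤ 1 := Int.le_of_dvd one_pos this
      omega
  obtain ⟨n, hn⟩ : ∃ n : ℕ, (n : ℤ) = m := ⟨m.toNat, Int.toNat_of_nonneg hm0⟩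
  set c : ℤ := -(b + d * (a / r)) with hc
  refine ⟨n, r - n, c, d - c, by omega, by omega, by omega, by ring, ?_⟩
  rw [Nat.cast_sub (by omega), hn]
  linear_combination key

/-- Nothing of small denominator lies strictly between Farey neighbours: if `d₁/r₁ < q/s ≤ d/r` with
`r₁ d - r d₁ = 1`, then `r ≤ s`. -/
theorem le_of_between {r₁ r s : ℕ} {d₁ d q : ℤ} (h1 : (r₁ : ℤ) * d - r * d₁ = 1)
    (h2 : d₁ * s < q * r₁) (h3 : q * r ≤ d * s) : r ≤ s := by
  -- `s = s (r₁ d - r d₁) = r₁ (s d - r q) + r (q r₁ - d₁ s) ≥ r`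
  have h4 : (s : ℤ) = r₁ * (d * s - q * r) + r * (q * r₁ - d₁ * s) := by
    linear_combination -(s : ℤ) * h1
  have h5 : (0 : ℤ) ≤ r₁ * (d * s - q * r) := mul_nonneg (by positivity) (by linarith)
  have h6 : (r : ℤ) ≤ r * (q * r₁ - d₁ * s) := by
    have : (1 : ℤ) ≤ q * r₁ - d₁ * s := by linarith
    nlinarith [this]
  have : (r : ℤ) ≤ s := by linarith
  exact_mod_cast this

end K705.Farey
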