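import Mathlib.FieldTheory.Galois.Basic
import Mathlib.RingTheory.Trace.Basic
import Mathlib.LinearAlgebra.Dual.Lemmas

/-!
# Semilinear descent for subspaces (helper705)

`K705.GalDesc.eq_span`: let `c : V → W` be a `K`-linear map into a `K'`-vector space spanned by its image, `τ_i` distinct
endomorphisms of the field `K'` with `∑ τ_i(a) ∈ K`, `S_i` `τ_i`-semilinear endomorphisms of `W` fixing `c(V)`.  A subspace `D`
of `W` stable under all `S_i` is spanned by `D ∩ c(V)`.
-/

set_option autoImplicit false

open Module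

namespace K705.GalDesc

section linear

variable {K K' V W ι : Type*} [CommRing K] [Field K'] [Algebra K K'] [AddCommGroup V] [Module K V] [AddCommGroup W]
  [Module K' W] [Fintype ι] [DecidableEq ι] {τ : ι → K' →+* K'}

/-- Distinct ring endomorphisms: the vectors `(τ_i a)_i` span `K'^ι`. -/
theorem span_eq_top (hinj : Function.Injective τ) :
    Submodule.span K' (Set.range fun a : K' => fun i => τ i a) = ⊤ := by
  by_contra hne
  obtain ⟨φ, hφ, hle⟩ := Submodule.exists_le_ker_of_lt_top _ (lt_top_iff_ne_top.mpr hne)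
  have h1 : ∀ v : ι → K', φ v = ∑ i, v i * φ (Pi.single i 1) := by
    intro v
    conv_lhs => rw [← Finset.univ_sum_single v]
    rw [map_sum]
    refine Finset.sum_congr rfl fun i _ => ?_
    rw [← smul_eq_mul, ← map_smul]
    congr 1
    ext j
    rcases eq_or_ne j i with rfl | hj
    · simp
    · simp [hj]
  have hli : LinearIndependent K' (fun i => ((τ i : K' →* K') : K' → K')) := by
    refine (linearIndependent_monoidHom K' K').comp (fun i => (τ i : K' →* K')) fun i j hij => hinj ?_
    ext a
    exact DFunLike.congr_fun hij a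
  have h2 : ∀ i, φ (Pi.single i 1) = 0 := by
    rw [Fintype.linearIndependent_iff] at hli
    refine hli (fun i => φ (Pi.single i 1)) ?_
    ext a
    have h3 : φ (fun i => τ i a) = 0 := hle (Submodule.subset_span ⟨a, rfl⟩)
    rw [h1] at h3
    simpa [mul_comm] using h3
  apply hφ
  ext i
  simpa using h2 i

variable (hinj : Function.Injective τ) (htr : ∀ a : K', ∃ b : K, algebraMap K K' b = ∑ i, τ i a)
  {c : V →+ W} (hc : ∀ (a : K) v, c (a • v) = algebraMap K K' a • c v)
  (hspan : Submodule.span K' (Set.range c) = ⊤)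
  {S : ι → W →+ W} (hS : ∀ i a w, S i (a • w) = τ i a • S i w) (hSc : ∀ i v, S i (c v) = c v)

include htr hc hspan hS hSc in
theorem trace_mem (w : W) : ∃ v, ∑ i, S i w = c v := by
  have hw : w ∈ Submodule.span K' (Set.range c) := by rw [hspan]; trivial
  rw [Finsupp.mem_span_range_iff_exists_finsupp] at hw
  obtain ⟨x, rfl⟩ := hw
  induction x using Finsupp.induction_linear with
  | zero => exact ⟨0, by simp⟩
  | add x y hx hy =>
    obtain ⟨v, hv⟩ := hx
    obtain ⟨v', hv'⟩ := hy
    refine ⟨v + v', ?_⟩
    rw [map_add, ← hv, ← hv', ← Finset.sum_add_distrib]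
    refine Finset.sum_congr rfl fun i _ => ?_
    rw [← map_add, Finsupp.sum_add_index' (by simp) (fun _ _ _ => add_smul _ _ _)]
  | single v a =>
    obtain ⟨b, hb⟩ := htr a
    refine ⟨b • v, ?_⟩
    rw [hc, hb, Finset.sum_smul]
    refine Finset.sum_congr rfl fun i _ => ?_
    rw [Finsupp.sum_single_index (by simp), hS, hSc]

omit [Fintype ι] [DecidableEq ι] in
include hspan hS hSc in
theorem eq_id {i₀ : ι} (h₀ : ∀ a, τ i₀ a = a) (w : W) : S i₀ w = w := by
  have hw : w ∈ Submodule.span K' (Set.range c) := by rw [hspan]; trivial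
  rw [Finsupp.mem_span_range_iff_exists_finsupp] at hw
  obtain ⟨x, rfl⟩ := hw
  rw [Finsupp.sum, map_sum]
  refine Finset.sum_congr rfl fun v _ => ?_
  rw [hS, hSc, h₀]

include hinj htr hc hspan hS hSc in
/-- **Galois descent for subspaces.** -/
theorem eq_span {i₀ : ι} (h₀ : ∀ a, τ i₀ a = a) (D : Submodule K' W) (hD : ∀ i w, w ∈ D → S i w ∈ D) :
    D = Submodule.span K' (c '' {v | c v ∈ D}) := by
  refine le_antisymm (fun d hd => ?_) (Submodule.span_le.mpr ?_)
  · have key : ∀ v ∈ Submodule.span K' (Set.range fun a : K' => fun i => τ i a),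
        ∑ i, v i • S i d ∈ Submodule.span K' (c '' {v | c v ∈ D}) := by
      intro v hv
      induction hv using Submodule.span_induction with
      | mem v hv =>
        obtain ⟨a, rfl⟩ := hv
        obtain ⟨u, hu⟩ := trace_mem htr hc hspan hS hSc (a • d)
        have h1 : ∑ i, τ i a • S i d = c u := by
          rw [← hu]
          exact Finset.sum_congr rfl fun i _ => (hS i a d).symm
        change ∑ i, τ i a • S i d ∈ _
        rw [h1]
        refine Submodule.subset_span ⟨u, ?_, rfl⟩
        change c u ∈ D
        rw [← h1]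
        exact D.sum_mem fun i _ => D.smul_mem _ (hD i d hd)
      | zero => simp
      | add x y _ _ hx hy =>
        simp only [Pi.add_apply, add_smul, Finset.sum_add_distrib]
        exact Submodule.add_mem _ hx hy
      | smul a x _ hx =>
        simp only [Pi.smul_apply, smul_eq_mul, mul_smul, ← Finset.smul_sum]
        exact Submodule.smul_mem _ _ hx
    have h2 := key (Pi.single i₀ 1) (by rw [span_eq_top hinj]; trivial)
    have h3 : ∑ i, (Pi.single i₀ (1 : K') : ι → K') i • S i d = d := by
      rw [Finset.sum_eq_single i₀]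
      · rw [Pi.single_eq_same, one_smul, eq_id hspan hS hSc h₀]
      · intro i _ hi
        rw [Pi.single_eq_of_ne hi, zero_smul]
      · intro h
        exact absurd (Finset.mem_univ _) h
    rwa [h3] at h2
  · rintro _ ⟨v, hv, rfl⟩
    exact hv

end linear

/-- If the number of the `τ_i` is the degree then `∑ τ_i` is the trace. -/
theorem exists_trace {K K' ι : Type*} [Field K] [Field K'] [Algebra K K'] [FiniteDimensional K K'] [Fintype ι]
    (τ : ι → K' →ₐ[K] K') (hinj : Function.Injective τ) (hcard : Fintype.card ι = finrank K K') (a : K') :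
    ∃ b : K, algebraMap K K' b = ∑ i, τ i a := by
  classical
  have h1 : Fintype.card (K' →ₐ[K] K') ≤ Fintype.card ι := by
    rw [hcard]
    exact AlgHom.card_le
  have hbij : Function.Bijective τ := (Fintype.bijective_iff_injective_and_card τ).mpr
    ⟨hinj, le_antisymm (Fintype.card_le_of_injective τ hinj) h1⟩
  have hgal : IsGalois K K' := by
    refine IsGalois.of_card_aut_eq_finrank K K' ?_
    rw [← hcard, Nat.card_congr (algEquivEquivAlgHom K K').toEquiv, Nat.card_eq_fintype_card,
      ← Fintype.card_of_bijective hbij]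
  refine ⟨Algebra.trace K K' a, ?_⟩
  rw [trace_eq_sum_automorphisms]
  exact ((algEquivEquivAlgHom K K').toEquiv.sum_comp (fun σ : K' →ₐ[K] K' => σ a)).trans
    (hbij.sum_comp (fun σ : K' →ₐ[K] K' => σ a)).symm

end K705.GalDesc
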