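import Groth.Agent.VBCurve.K705.Gen1
import Groth.Agent.VBCurve.K705.Farey
import Groth.Agent.VBCurve.K705.InvolSS
import Groth.Agent.VBCurve.K708.DualDeg

/-!
# Stable and semistable modules on a curve of genus one (helper705)

* `stable_of_nonsplit`: a non-split extension of stable modules whose slopes are Farey neighbours is stable;
* `exists_stable`: stable modules of coprime rank and degree;
* `exists_semistable`: semistable modules of every rank and degree.
-/

set_option autoImplicit false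
universe u

open CategoryTheory CategoryTheory.Limits AlgebraicGeometry TopologicalSpace Opposite MonoidalCategory

namespace K705.Gen1Stab

open scoped Groth.Agent.Dcoh.MonCat
open Groth.Agent.VarietyA.DegRank K707.Base K707.Deg K707.Slope K707.Semi K705.Setup K705.ExtH1 K705.Gen1

variable {k : Type u} [Field k] {X : Scheme.{u}} [X.Over (Spec (CommRingCat.of k))]
  [IsIntegral X] [IsProper (X ↘ (Spec (CommRingCat.of k)))]

theorem add_le_of_between {r₁ r s : ℕ} {d₁ d q : ℤ} (h1 : (r₁ : ℤ) * d - r * d₁ = 1)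
    (h2 : d₁ * s < q * r₁) (h3 : q * r < d * s) : r₁ + r ≤ s := by
  have h4 : (s : ℤ) = r₁ * (d * s - q * r) + r * (q * r₁ - d₁ * s) := by
    linear_combination -(s : ℤ) * h1
  have h5 : (r₁ : ℤ) ≤ r₁ * (d * s - q * r) := by
    have : (1 : ℤ) ≤ d * s - q * r := by linarith
    nlinarith [this]
  have h6 : (r : ℤ) ≤ r * (q * r₁ - d₁ * s) := by
    have : (1 : ℤ) ≤ q * r₁ - d₁ * s := by linarith
    nlinarith [this]
  zify
  linarith

/-- rank smaller and coprimality exclude equality of slopes -/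
theorem ne_of_coprime {r s : ℕ} {d q : ℤ} (h : Int.gcd d (r : ℤ) = 1) (hs : 0 < s) (hsr : s < r) :
    q * r ≠ d * s := by
  intro he
  have h1 : (r : ℤ) ∣ d * s := ⟨q, by rw [← he]; ring⟩
  have h2 : IsCoprime (r : ℤ) d := by
    rw [Int.isCoprime_iff_gcd_eq_one, Int.gcd_comm]
    exact h
  have h3 : (r : ℤ) ∣ s := h2.dvd_of_dvd_mul_left h1
  have h4 : r ∣ s := by exact_mod_cast h3
  exact absurd (Nat.le_of_dvd hs h4) (by omega)

/-- **A non-split extension of stable modules with Farey neighbour slopes is stable.** -/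
theorem stable_of_nonsplit (C : Crv k X) (T : ShortComplex X.Modules) (hT : T.ShortExact)
    (h₁ : FlatMod.IsFinLocFree T.X₁) (h₂ : FlatMod.IsFinLocFree T.X₂) (h₃ : FlatMod.IsFinLocFree T.X₃)
    (hs₁ : St k T.X₁) (hs₃ : St k T.X₃) (p₁ : 0 < rk T.X₁) (p₃ : 0 < rk T.X₃)
    (hF : (rk T.X₁ : ℤ) * dg k T.X₃ - rk T.X₃ * dg k T.X₁ = 1)
    (hsp : ¬ ∃ s : T.X₃ ⟶ T.X₂, s ≫ T.g = 𝟙 _) : St k T.X₂ := by
  have hTm := hT.mono_f
  have hTe := hT.epi_g
  have e1 := rk_add' k T hT (coh_of_vb h₂)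
  have e2 := dg_add k T hT (coh_of_vb h₁) (coh_of_vb h₂) (coh_of_vb h₃)
  by_contra hcon
  obtain ⟨G, i, hi, hG, hG0, hmax⟩ := exists_maxSlope C h₂ (by omega) (-1) (Or.inr rfl)
  -- `G` has rank smaller than that of `M`
  have e1' : (rk T.X₂ : ℤ) = rk T.X₁ + rk T.X₃ := by exact_mod_cast e1
  have p₁' : (0 : ℤ) < rk T.X₁ := by exact_mod_cast p₁
  have p₃' : (0 : ℤ) < rk T.X₃ := by exact_mod_cast p₃
  have hG0' : (0 : ℤ) < rk G := by exact_mod_cast hG0
  simp only [St, not_forall, not_lt] at hcon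
  obtain ⟨F, j, hj, hFv, hF0, hFr, hle⟩ := hcon
  have hF0' : (0 : ℤ) < rk F := by exact_mod_cast hF0
  have hself := hmax T.X₂ (𝟙 _) inferInstance h₂ (by omega)
  have hFm := hmax F j hj hFv hF0
  have hGr : rk G < rk T.X₂ := by
    rcases (rk_le_of_mono C i (coh_of_vb hG) (coh_of_vb h₂)).lt_or_eq with h | h
    · exact h
    · exfalso
      have h4 := dg_le_of_mono C i (coh_of_vb hG) (coh_of_vb h₂) h.ge
      have h5 : dg k F * rk G = dg k G * rk F := by
        apply le_antisymm hFm.1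
        rw [h]
        calc dg k G * rk F ≤ dg k T.X₂ * rk F := mul_le_mul_of_nonneg_right h4 hF0'.le
          _ ≤ dg k F * rk T.X₂ := hle
      have h6 := hFm.2 h5
      have h7 : (rk F : ℤ) < rk T.X₂ := by exact_mod_cast hFr
      rw [h] at h6
      linarith
  have hgcd : Int.gcd (dg k T.X₂) (rk T.X₂ : ℤ) = 1 := by
    rw [← Int.isCoprime_iff_gcd_eq_one]
    refine ⟨rk T.X₁, -dg k T.X₁, ?_⟩
    rw [e1', e2]
    linear_combination hF
  have hGs : St k G := by
    intro F' i' hi' hF' h0 h1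
    have h2 := hmax F' (i' ≫ i) (mono_comp _ _) hF' h0
    refine lt_of_le_of_ne h2.1 fun he => ?_
    have h3 := h2.2 he
    have h4 : (rk F' : ℤ) < rk G := by exact_mod_cast h1
    linarith
  have hlt : dg k T.X₂ * rk G < dg k G * rk T.X₂ :=
    lt_of_le_of_ne hself.1 fun he => ne_of_coprime hgcd hG0 hGr he.symm
  by_cases hc : i ≫ T.g = 0
  · -- `G ⊂ E₁`
    obtain ⟨l, hl⟩ := hT.exact.lift' i hc
    have hlm : Mono l := by
      have : Mono (l ≫ T.f) := by rw [hl]; exact hi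
      exact mono_of_mono l T.f
    have h4 := hs₁.ss C h₁ G l hlm hG
    have h5 : dg k T.X₁ * rk T.X₂ < dg k T.X₂ * rk T.X₁ := by
      rw [e1', e2]
      linarith
    have h6 : dg k G * rk T.X₂ * rk T.X₁ < dg k G * rk T.X₂ * rk T.X₁ := by
      calc dg k G * rk T.X₂ * rk T.X₁ = (dg k G * rk T.X₁) * rk T.X₂ := by ring
        _ ≤ (dg k T.X₁ * rk G) * rk T.X₂ := mul_le_mul_of_nonneg_right h4 (by positivity)
        _ = (dg k T.X₁ * rk T.X₂) * rk G := by ring
        _ < (dg k T.X₂ * rk T.X₁) * rk G := mul_lt_mul_of_pos_right h5 hG0'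
        _ = (dg k T.X₂ * rk G) * rk T.X₁ := by ring
        _ < dg k G * rk T.X₂ * rk T.X₁ := mul_lt_mul_of_pos_right hlt p₁'
    exact lt_irrefl _ h6
  · -- nonzero `G → E₂`
    have h4 : dg k G * rk T.X₃ < dg k T.X₃ * rk G := by
      by_contra h4
      rw [not_lt] at h4
      have h5 : IsIso (i ≫ T.g) := hGs.isIso_of_ne_zero C hG hs₃ h₃ h4 _ hc
      exact hsp ⟨inv (i ≫ T.g) ≫ i, by rw [Category.assoc, IsIso.inv_hom_id]⟩
    have h5 := add_le_of_between (r₁ := rk T.X₂) (r := rk T.X₃) (s := rk G) (d₁ := dg k T.X₂) (d := dg k T.X₃)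
      (q := dg k G) (by rw [e1', e2]; linear_combination hF) hlt h4
    omega

/-- Stable modules of coprime rank and degree, given invertible modules of each degree. -/
theorem exists_stable (g : G1 k X) (hL : ∀ d : ℤ, ∃ L : X.Modules, PicF.IsInvertible L ∧ dg k L = d) :
    ∀ (r : ℕ), 0 < r → ∀ d : ℤ, Int.gcd d (r : ℤ) = 1 →
      ∃ E : X.Modules, FlatMod.IsFinLocFreeOfRank r E ∧ dg k E = d ∧ St k E := by
  intro r
  induction r using Nat.strong_induction_on with
  | _ r ih =>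
  intro hr d hgcd
  have C := g.crv
  rcases (show r = 1 ∨ 2 ≤ r by omega) with rfl | h2
  · obtain ⟨L, h1, h3⟩ := hL d
    have h4 := K707.TensL.rank_one_iff.mpr h1
    refine ⟨L, h4, h3, fun F i hi hF h0 hlt => ?_⟩
    rw [rk_of_rank h4] at hlt
    omega
  · obtain ⟨r₁, r₂, d₁, d₂, p₁, p₂, hsum, hdsum, hF⟩ := K705.Farey.exists_parents r d h2 hgcd
    obtain ⟨E₁, q₁, e₁, s₁⟩ := ih r₁ (by omega) p₁ d₁ (by
      rw [← Int.isCoprime_iff_gcd_eq_one]
      exact ⟨-r₂, d₂, by linear_combination hF⟩)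
    obtain ⟨E₂, q₂, e₂, s₂⟩ := ih r₂ (by omega) p₂ d₂ (by
      rw [← Int.isCoprime_iff_gcd_eq_one]
      exact ⟨r₁, -d₁, by linear_combination hF⟩)
    have v₁ := isFinLocFree_of_rank q₁
    have v₂ := isFinLocFree_of_rank q₂
    obtain ⟨E₂', hE₂', ⟨P⟩⟩ := K708.Dual.exists_dual q₂
    have hχ := K708.DualDeg.euler_hom C v₂ v₁ E₂'
    have hχ0 : Curv2.euler k X (Coh.structureModule X) = 0 := by
      rw [g.euler, K708.SSH0.dg_structureModule]
    rw [hχ0, rk_of_rank q₂, rk_of_rank q₁, e₁, e₂, euler_eq C] at hχ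
    have hns : ¬ Subsingleton (Coh.HH X (CohB1.tensorMod E₁ E₂') 1) := fun h => by
      rw [Module.finrank_zero_of_subsingleton (M := Coh.HH X (CohB1.tensorMod E₁ E₂') 1)] at hχ
      have : (0 : ℤ) ≤ Module.finrank k (Coh.HH X (CohB1.tensorMod E₁ E₂') 0) := by positivity
      push_cast at hχ
      linarith
    obtain ⟨M, i, p, w, hS, hsec⟩ := exists_nonsplit E₂ E₂' E₁ hns
    have vM : FlatMod.IsFinLocFree M :=
      Groth.Agent.Sga67.LocBasis.isFinLocFree_of_shortExact hS v₁ v₂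
    have hst := stable_of_nonsplit C (ShortComplex.mk i p w) hS v₁ vM v₂ s₁ s₂
      (by rw [rk_of_rank q₁]; exact p₁) (by rw [rk_of_rank q₂]; exact p₂)
      (by rw [rk_of_rank q₁, rk_of_rank q₂, e₁, e₂]; exact hF) hsec
    have a1 := rk_add' k _ hS (coh_of_vb vM)
    have a2 := dg_add k _ hS (coh_of_vb v₁) (coh_of_vb vM) (coh_of_vb v₂)
    have hrM : rk M = r := by
      have : rk M = rk E₁ + rk E₂ := a1
      rw [this, rk_of_rank q₁, rk_of_rank q₂, hsum]
    refine ⟨M, ?_, ?_, hst⟩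
    · rw [← hrM]
      exact isFinLocFreeOfRank_rk vM
    · have : dg k M = dg k E₁ + dg k E₂ := a2
      rw [this, e₁, e₂, hdsum]

/-- Sums of copies of a semistable module. -/
theorem exists_multiple (C : Crv k X) {E : X.Modules} (hE : FlatMod.IsFinLocFree E) (hs : SS k E) (h0 : 0 < rk E)
    (n : ℕ) : ∃ M : X.Modules, FlatMod.IsFinLocFree M ∧ rk M = (n + 1) * rk E ∧ dg k M = (n + 1) * dg k E ∧
      SS k M := by
  induction n with
  | zero => exact ⟨E, hE, by simp, by simp, hs⟩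
  | succ n ih =>
    obtain ⟨M, hM, h1, h2, h3⟩ := ih
    have hS : (ShortComplex.mk (biprod.inl : E ⟶ E ⊞ M) (biprod.snd : E ⊞ M ⟶ M) biprod.inl_snd).ShortExact :=
      (ShortComplex.Splitting.ofHasBinaryBiproduct E M).shortExact
    obtain ⟨v, e1, e2⟩ := K705.InvolSS.biprod_numbers C hE hM
    have e1' : (rk (E ⊞ M) : ℤ) = (n + 2) * rk E := by
      rw [e1, h1]; push_cast; ring
    have e2' : dg k (E ⊞ M) = (n + 2) * dg k E := by
      rw [e2, h2]; ring
    have h1' : (rk M : ℤ) = (n + 1) * rk E := by exact_mod_cast h1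
    refine ⟨E ⊞ M, v, ?_, ?_, ?_⟩
    · zify
      rw [e1']; push_cast; ring
    · rw [e2']; push_cast; ring
    · refine ss_ext C _ hS hE v hM h0 (by rw [h1]; positivity) ?_ ?_ hs h3
      · change dg k E * rk (E ⊞ M) = dg k (E ⊞ M) * rk E
        rw [e1', e2']; ring
      · change dg k M * rk (E ⊞ M) = dg k (E ⊞ M) * rk M
        rw [e1', e2', h1', h2]; ring

/-- Semistable modules of every rank and degree. -/
theorem exists_semistable (g : G1 k X) (hL : ∀ d : ℤ, ∃ L : X.Modules, PicF.IsInvertible L ∧ dg k L = d)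
    (r : ℕ) (hr : 0 < r) (d : ℤ) :
    ∃ E : X.Modules, FlatMod.IsFinLocFreeOfRank r E ∧ dg k E = d ∧ SS k E := by
  have hgpos : 0 < Int.gcd d (r : ℤ) := Int.gcd_pos_of_ne_zero_right _ (by positivity)
  obtain ⟨a, b, hab, ha, hb⟩ := Int.exists_gcd_one hgpos
  set h : ℕ := Int.gcd d (r : ℤ) with hh
  have hb0 : 0 < b := by
    have h1 : (0 : ℤ) < r := by positivity
    have h2 : (0 : ℤ) < h := by exact_mod_cast hgpos
    rw [hb] at h1
    exact pos_of_mul_pos_left h1 h2.le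
  obtain ⟨b', rfl⟩ := Int.eq_ofNat_of_zero_le hb0.le
  have hb0' : 0 < b' := by exact_mod_cast hb0
  obtain ⟨E₀, q, e, s⟩ := exists_stable g hL b' hb0' a hab
  have v := isFinLocFree_of_rank q
  have C := g.crv
  obtain ⟨M, vM, m1, m2, m3⟩ := exists_multiple C v (s.ss C v) (by rw [rk_of_rank q]; exact hb0') (h - 1)
  have hh1 : h - 1 + 1 = h := Nat.sub_add_cancel hgpos
  have hh2 : ((h - 1 : ℕ) : ℤ) + 1 = h := by exact_mod_cast hh1
  rw [rk_of_rank q, hh1] at m1
  rw [e, hh2] at m2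
  refine ⟨M, ?_, ?_, m3⟩
  · have : rk M = r := by
      zify
      rw [m1]
      push_cast
      rw [hb]; ring
    rw [← this]
    exact isFinLocFreeOfRank_rk vM
  · rw [m2, ha]; ring

end K705.Gen1Stab
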