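import Groth.Agent.VBCurve.K705.Cov
import Groth.Agent.VBCurve.K705.GalDesc
import Groth.Agent.CycB.ModStalk


/-!
# The semilinear action of automorphisms on the generic stalk of an inverse image (helper705)
-/

set_option autoImplicit false
universe u

open CategoryTheory CategoryTheory.Limits AlgebraicGeometry TopologicalSpace Opposite

namespace K705.GenGal

open Groth.Agent Groth.Agent.Fdesc.PullbackStalk Groth.Agent.Fdesc.LocGen Groth.Agent.CycB.StalkExact

section one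

variable {X Y : Scheme.{u}} (σ : X ⟶ X) {η : X} (hη : σ.base η = η)

/-- The endomorphism of the local ring at a fixed point. -/
noncomputable def tau : X.presheaf.stalk η →+* X.presheaf.stalk η :=
  (σ.stalkMap η).hom.comp (X.presheaf.stalkSpecializes (specializes_of_eq hη)).hom

include hη in
theorem mem_pre {U : X.Opens} (hU : η ∈ U) : η ∈ σ ⁻¹ᵁ U := by
  change σ.base η ∈ U
  rw [hη]
  exact hU

theorem tau_germ (U : X.Opens) (hU : η ∈ U) (r : Γ(X, U)) :
    tau σ hη (X.presheaf.germ U η hU r) = X.presheaf.germ (σ ⁻¹ᵁ U) η (mem_pre σ hη hU) (σ.app U r) := by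
  have h1 := TopCat.Presheaf.germ_stalkSpecializes_apply X.presheaf (U := U) hU (specializes_of_eq hη) r
  refine (congrArg (σ.stalkMap η).hom h1).trans ?_
  exact Scheme.Hom.germ_stalkMap_apply σ U η (mem_pre σ hη hU) r

/-- The semilinear map on the stalk at a fixed point attached to `σ^* M → M`. -/
noncomputable def Sg {M : X.Modules} (l : (Scheme.Modules.pullback σ).obj M ⟶ M) :
    M.presheaf.stalk η →+ M.presheaf.stalk η :=
  ((stalkLin l η).toAddMonoidHom.comp (canAdd σ M η)).comp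
    (M.presheaf.stalkSpecializes (specializes_of_eq hη)).hom

theorem Sg_smul {M : X.Modules} (l : (Scheme.Modules.pullback σ).obj M ⟶ M) (a : X.presheaf.stalk η)
    (m : M.presheaf.stalk η) : Sg σ hη l (a • m) = tau σ hη a • Sg σ hη l m := by
  change stalkLin l η (canAdd σ M η (M.presheaf.stalkSpecializes (specializes_of_eq hη) (a • m))) = _
  rw [CycB.ModStalk.stalkSpecializes_smul, canAdd_smul, map_smul]
  rfl

theorem Sg_germ {M : X.Modules} (l : (Scheme.Modules.pullback σ).obj M ⟶ M) (U : X.Opens) (hU : η ∈ U)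
    (m : Γ(M, U)) :
    Sg σ hη l (M.presheaf.germ U η hU m) =
      M.presheaf.germ (σ ⁻¹ᵁ U) η (mem_pre σ hη hU) (l.app (σ ⁻¹ᵁ U) (pullSec σ m)) := by
  have h1 := TopCat.Presheaf.germ_stalkSpecializes_apply M.presheaf (U := U) hU (specializes_of_eq hη) m
  refine (congrArg (fun t => stalkLin l η (canAdd σ M η t)) h1).trans ?_
  have h2 := canAdd_germ σ M η U (mem_pre σ hη hU) m
  refine (congrArg (stalkLin l η) h2).trans ?_
  exact stalkLin_germ l η _ _

theorem Sg_naturality {M N : X.Modules} (φ : M ⟶ N) (l : (Scheme.Modules.pullback σ).obj M ⟶ M)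
    (l' : (Scheme.Modules.pullback σ).obj N ⟶ N) (h : l ≫ φ = (Scheme.Modules.pullback σ).map φ ≫ l')
    (m : M.presheaf.stalk η) : stalkLin φ η (Sg σ hη l m) = Sg σ hη l' (stalkLin φ η m) := by
  obtain ⟨U, hU, s, rfl⟩ := M.presheaf.exists_germ_eq m
  have h1 := congrArg (stalkLin φ η) (Sg_germ σ hη l U hU s)
  have h2 := congrArg (Sg σ hη l') (stalkLin_germ φ η hU s)
  refine h1.trans ?_
  refine Eq.trans ?_ h2.symm
  refine (stalkLin_germ φ η _ _).trans ?_
  refine Eq.trans ?_ (Sg_germ σ hη l' U hU _).symm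
  congr 1
  have h3 : (l ≫ φ).app (σ ⁻¹ᵁ U) (pullSec σ s) =
      ((Scheme.Modules.pullback σ).map φ ≫ l').app (σ ⁻¹ᵁ U) (pullSec σ s) := by rw [h]
  refine Eq.trans (show _ = (l ≫ φ).app (σ ⁻¹ᵁ U) (pullSec σ s) from rfl) (h3.trans ?_)
  exact congrArg (l'.app (σ ⁻¹ᵁ U)) (pullback_map_pullSec σ φ s)

end one

section lam

variable {X Y : Scheme.{u}} {σ : X ⟶ X} {f : X ⟶ Y} (hσ : σ ≫ f = f) {η : X} (hη : σ.base η = η)

/-- The canonical linearisation `σ^* f^* E → f^* E`. -/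
noncomputable def lam (E : Y.Modules) :
    (Scheme.Modules.pullback σ).obj ((Scheme.Modules.pullback f).obj E) ⟶ (Scheme.Modules.pullback f).obj E :=
  (Scheme.Modules.pullbackComp σ f).hom.app E ≫ (Scheme.Modules.pullbackCongr hσ).hom.app E

theorem germ_congr {M : Y.Modules} {g : X ⟶ Y} (h : g = f) (U : Y.Opens) (m : Γ(M, U)) (hx : η ∈ g ⁻¹ᵁ U)
    (hx' : η ∈ f ⁻¹ᵁ U) :
    ((Scheme.Modules.pullback f).obj M).presheaf.germ (g ⁻¹ᵁ U) η hx
      (((Scheme.Modules.pullbackCongr h).hom.app M).app (g ⁻¹ᵁ U) (pullSec g m)) =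
    ((Scheme.Modules.pullback f).obj M).presheaf.germ (f ⁻¹ᵁ U) η hx' (pullSec f m) := by
  subst h
  rfl

theorem Sg_lam_canAdd (E : Y.Modules) (v : E.presheaf.stalk (f.base η)) :
    Sg σ hη (lam hσ E) (canAdd f E η v) = canAdd f E η v := by
  obtain ⟨U, hU, s, rfl⟩ := E.presheaf.exists_germ_eq v
  have h0 := canAdd_germ f E η U hU s
  refine (congrArg (Sg σ hη (lam hσ E)) h0).trans (Eq.trans ?_ h0.symm)
  refine (Sg_germ σ hη (lam hσ E) (f ⁻¹ᵁ U) hU _).trans ?_
  have h1 : (lam hσ E).app (σ ⁻¹ᵁ (f ⁻¹ᵁ U)) (pullSec σ (pullSec f s)) =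
      ((Scheme.Modules.pullbackCongr hσ).hom.app E).app ((σ ≫ f) ⁻¹ᵁ U) (pullSec (σ ≫ f) s) :=
    congrArg (((Scheme.Modules.pullbackCongr hσ).hom.app E).app ((σ ≫ f) ⁻¹ᵁ U)) (pullSec_comp' σ f s)
  refine (congrArg (((Scheme.Modules.pullback f).obj E).presheaf.germ (σ ⁻¹ᵁ (f ⁻¹ᵁ U)) η
    (mem_pre σ hη hU)) h1).trans ?_
  exact germ_congr hσ U s (show η ∈ σ ⁻¹ᵁ (f ⁻¹ᵁ U) from mem_pre σ hη (U := f ⁻¹ᵁ U) hU) hU

include hσ in
theorem tau_stalkMap (r : Y.presheaf.stalk (f.base η)) :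
    tau σ hη (f.stalkMap η r) = f.stalkMap η r := by
  obtain ⟨U, hU, s, rfl⟩ := Y.presheaf.exists_germ_eq r
  have h0 := Scheme.Hom.germ_stalkMap_apply f U η hU s
  refine (congrArg (tau σ hη) h0).trans (Eq.trans ?_ h0.symm)
  refine (tau_germ σ hη (f ⁻¹ᵁ U) hU _).trans ?_
  have key : ∀ (g : X ⟶ Y) (h : g = f) (hx : η ∈ g ⁻¹ᵁ U),
      X.presheaf.germ (g ⁻¹ᵁ U) η hx (g.app U s) = X.presheaf.germ (f ⁻¹ᵁ U) η hU (f.app U s) := by
    rintro g rfl hx
    rfl
  have h1 : σ.app (f ⁻¹ᵁ U) (f.app U s) = (σ ≫ f).app U s := by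
    rw [Scheme.Hom.comp_app]
    rfl
  rw [h1]
  exact key (σ ≫ f) hσ (show η ∈ σ ⁻¹ᵁ (f ⁻¹ᵁ U) from mem_pre σ hη (U := f ⁻¹ᵁ U) hU)

end lam

/-- An endomorphism of `X` over `Y` fixing the generic point is determined by its effect on the function field. -/
theorem eq_of_tau {X Y : Scheme.{u}} [IsIntegral X] {f : X ⟶ Y} [IsSeparated f] {σ σ' : X ⟶ X}
    (hσ : σ ≫ f = f) (hσ' : σ' ≫ f = f) (hη : σ.base (genericPoint X) = genericPoint X) (hη' : σ'.base (genericPoint X) = genericPoint X)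
    (h : tau σ hη = tau σ' hη') : σ = σ' := by
  have key : ∀ (g : X ⟶ X) (hg : g.base (genericPoint X) = genericPoint X),
      X.fromSpecStalk (genericPoint X) ≫ g =
        Spec.map (CommRingCat.ofHom (tau g hg)) ≫ X.fromSpecStalk (genericPoint X) := by
    intro g hg
    have h1 : CommRingCat.ofHom (tau g hg) =
      X.presheaf.stalkSpecializes (specializes_of_eq hg) ≫ g.stalkMap (genericPoint X) := rfl
    rw [h1, Spec.map_comp, Category.assoc, Scheme.SpecMap_stalkSpecializes_fromSpecStalk,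
      Scheme.SpecMap_stalkMap_fromSpecStalk]
  have := K707.Base.isDominant_gen (X := X)
  refine ext_of_isDominant_of_isSeparated f (hσ.trans hσ'.symm) (X.fromSpecStalk (genericPoint X)) ?_
  rw [key σ hη, key σ' hη', h]

end K705.GenGal
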