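import Groth.Agent.VBCurve.K705.GenGal
import Groth.Agent.S7640
import Groth.Agent.TorSh.K653.RatEmb
import Groth.Agent.Smoothlim.ModKer

/-!
# Descent of subspaces of the generic stalk of `f^* E` (helper705)
-/

set_option autoImplicit false
universe u

open CategoryTheory CategoryTheory.Limits AlgebraicGeometry TopologicalSpace Opposite

namespace K705.GenGal

open Groth.Agent Groth.Agent.Fdesc.PullbackStalk Groth.Agent.Fdesc.LocGen Groth.Agent.CycB.StalkExact
open Groth.Agent.VarietyA.DegRank K707.Base K707.Deg K707.Slope K707.Semi K707.TensL K705.Cov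

theorem map_genericPoint {X Y : Scheme.{u}} [IsIntegral X] [IsIntegral Y] (f : X ⟶ Y) [IsDominant f] :
    f (genericPoint X) = genericPoint Y := by
  refine (((genericPoint_spec X).image f.continuous).eq ?_)
  have : closure (Set.range f) = Set.univ := f.denseRange.closure_range
  rw [Set.image_univ, this]
  exact genericPoint_spec Y

theorem isField_of_eq {Y : Scheme.{u}} [IsIntegral Y] {y : Y} (h : y = genericPoint Y) :
    IsField (Y.presheaf.stalk y) := by
  subst h
  exact K707.Base.isField_gen Y

theorem residue_bijective {X : Scheme.{u}} (x : X) (h : IsField (X.presheaf.stalk x)) :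
    Function.Bijective (X.residue x).hom := by
  refine ⟨?_, X.residue_surjective x⟩
  let := h.toField
  exact (X.residue x).hom.injective

variable {k : Type u} [Field k] {X Y : Scheme.{u}} [X.Over (Spec (CommRingCat.of k))]
  [Y.Over (Spec (CommRingCat.of k))] [IsIntegral X] [IsProper (X ↘ (Spec (CommRingCat.of k)))]
  [IsIntegral Y] [IsProper (Y ↘ (Spec (CommRingCat.of k)))] {f : X ⟶ Y} {n : ℕ}

/-- The degree of the extension of function fields. -/
theorem finrank_gen (h : IsCov k f n) :
    letI := stalkAlg f (genericPoint X)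
    Module.finrank (Y.presheaf.stalk (f.base (genericPoint X))) (X.presheaf.stalk (genericPoint X)) = n := by
  have := h.fin
  have := h.dom
  have hξ := map_genericPoint f
  have := isNoetherian k (X := X)
  have := isNoetherian k (X := Y)
  have h1 := S7640.finrank_push_stalk f h.crvX.dim.le h.crvY.dim hξ
  have h2 : rk ((Scheme.Modules.pushforward f).obj (Coh.structureModule X)) = f.residueDegree (genericPoint X) := h1
  rw [rk_of_rank h.rank] at h2
  rw [h2]
  let := stalkAlg f (genericPoint X)
  let : Algebra (Y.residueField (f.base (genericPoint X))) (X.residueField (genericPoint X)) :=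
    (f.residueFieldMap (genericPoint X)).hom.toAlgebra
  refine Algebra.finrank_eq_of_equiv_equiv
    (RingEquiv.ofBijective _ (residue_bijective (f.base (genericPoint X)) (isField_of_eq hξ)))
    (RingEquiv.ofBijective _ (residue_bijective (genericPoint X) (isField_gen X))) ?_
  ext a
  exact congr(($(Scheme.residue_residueFieldMap f (genericPoint X))).hom a)

omit [IsProper (X ↘ (Spec (CommRingCat.of k)))] [IsIntegral X] [X.Over (Spec (CommRingCat.of k))] in
theorem tau_of_eq_id {σ : X ⟶ X} (h : σ = 𝟙 X) {η : X} (hη : σ.base η = η) (a : X.presheaf.stalk η) :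
    tau σ hη a = a := by
  subst h
  obtain ⟨U, hU, r, rfl⟩ := X.presheaf.exists_germ_eq a
  exact tau_germ (𝟙 X) hη U hU r

section desc

variable {ι : Type*} {σ : ι → (X ⟶ X)} (hσ : ∀ i, σ i ≫ f = f)
  (hη : ∀ i, (σ i).base (genericPoint X) = genericPoint X)

/-- **Galois descent for subspaces of the generic stalk of `f^* E`.** -/
theorem descent (h : IsCov k f n) [Fintype ι] [DecidableEq ι] (hinj : Function.Injective σ)
    (hcard : Fintype.card ι = n) {i₀ : ι} (h₀ : σ i₀ = 𝟙 X) {E : Y.Modules}
    (D : Submodule (X.presheaf.stalk (genericPoint X))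
      (((Scheme.Modules.pullback f).obj E).presheaf.stalk (genericPoint X)))
    (hD : ∀ i, i ≠ i₀ → ∀ w, w ∈ D → Sg (σ i) (hη i) (lam (hσ i) E) w ∈ D) :
    D = Submodule.span _ (canAdd f E (genericPoint X) '' {v | canAdd f E (genericPoint X) v ∈ D}) := by
  have := h.fin
  have := h.dom
  let := stalkAlg f (genericPoint X)
  let F' : Field (X.presheaf.stalk (genericPoint X)) := (isField_gen X).toField
  let F : Field (Y.presheaf.stalk (f.base (genericPoint X))) := (isField_of_eq (map_genericPoint f)).toField
  have hfr : Module.finrank (Y.presheaf.stalk (f.base (genericPoint X))) (X.presheaf.stalk (genericPoint X)) = n :=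
    finrank_gen h
  have hpos : 0 < n := by
    rw [← hcard]
    exact Fintype.card_pos_iff.mpr ⟨i₀⟩
  have hfin : Module.Finite (Y.presheaf.stalk (f.base (genericPoint X))) (X.presheaf.stalk (genericPoint X)) :=
    Module.finite_of_finrank_pos (by rw [hfr]; exact hpos)
  let τ : ι → (X.presheaf.stalk (genericPoint X) →ₐ[Y.presheaf.stalk (f.base (genericPoint X))]
      X.presheaf.stalk (genericPoint X)) := fun i =>
    { tau (σ i) (hη i) with
      commutes' := fun r => tau_stalkMap (hσ i) (hη i) r }
  have hτ : Function.Injective τ := fun i j hij => hinj (eq_of_tau (hσ i) (hσ j) (hη i) (hη j) (by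
    ext a
    exact DFunLike.congr_fun hij a))
  refine GalDesc.eq_span (K := Y.presheaf.stalk (f.base (genericPoint X)))
    (τ := fun i => (τ i : X.presheaf.stalk (genericPoint X) →+* X.presheaf.stalk (genericPoint X)))
    (c := canAdd f E (genericPoint X)) (S := fun i => Sg (σ i) (hη i) (lam (hσ i) E)) (i₀ := i₀)
    (fun i j hij => hτ (by ext a; exact DFunLike.congr_fun hij a))
    (fun a => GalDesc.exists_trace τ hτ (by rw [hcard, hfr]) a)
    (fun a v => canAdd_smul f E (genericPoint X) a v) (span_range_canAdd f E (genericPoint X))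
    (fun i a w => Sg_smul (σ i) (hη i) _ a w) (fun i v => Sg_lam_canAdd (hσ i) (hη i) E v)
    (fun a => tau_of_eq_id h₀ (hη i₀) a) D (fun i w hw => ?_)
  by_cases hi : i = i₀
  · subst hi
    have h1 := GalDesc.eq_id (c := canAdd f E (genericPoint X)) (S := fun i => Sg (σ i) (hη i) (lam (hσ i) E))
      (τ := fun i => (τ i : X.presheaf.stalk (genericPoint X) →+* X.presheaf.stalk (genericPoint X)))
      (span_range_canAdd f E (genericPoint X)) (fun i a w => Sg_smul (σ i) (hη i) _ a w)
      (fun i v => Sg_lam_canAdd (hσ i) (hη i) E v) (fun a => tau_of_eq_id h₀ (hη i) a) w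
    exact h1.symm ▸ hw
  · exact hD i hi w hw

end desc

end K705.GenGal
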