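import Groth.Agent.VBCurve.K707.Semi

/-!
# Bundles jointly embedded in finitely many invertible modules of degree zero (helper705)
-/

set_option autoImplicit false
universe u

open CategoryTheory CategoryTheory.Limits AlgebraicGeometry TopologicalSpace Opposite

namespace K705.SumInv

open Groth.Agent.VarietyA.DegRank K707.Base K707.Deg K707.Slope K707.Semi

variable {X : Scheme.{u}} {ι : Type*}

/-- The maps `p i`, `i ∈ s`, are jointly injective (tested on bundles). -/
def JM (s : Finset ι) {V : X.Modules} {L : ι → X.Modules} (p : ∀ i, V ⟶ L i) : Prop :=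
  ∀ (N : X.Modules) (j : N ⟶ V), Mono j → FlatMod.IsFinLocFree N → (∀ i ∈ s, j ≫ p i = 0) → IsZero N

theorem JM.kernel [DecidableEq ι] {s : Finset ι} {a : ι} {V : X.Modules} {L : ι → X.Modules} {p : ∀ i, V ⟶ L i}
    (h : JM (insert a s) p) : JM s (fun i => kernel.ι (p a) ≫ p i) := by
  intro N j hj hN h0
  refine h N (j ≫ kernel.ι (p a)) inferInstance hN fun i hi => ?_
  rcases Finset.mem_insert.mp hi with rfl | hi
  · rw [Category.assoc, kernel.condition, comp_zero]
  · rw [Category.assoc]
    exact h0 i hi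

variable {k : Type u} [Field k] [X.Over (Spec (CommRingCat.of k))]
  [IsIntegral X] [IsProper (X ↘ (Spec (CommRingCat.of k)))]

omit [IsProper (X ↘ (Spec (CommRingCat.of k)))] in
theorem st_of_rk_one {L : X.Modules} (h : rk L = 1) : St k L := by
  intro F i _ _ h0 h1
  omega

/-- A bundle jointly embedded in invertible modules of degree zero has degree at most zero. -/
theorem dg_le (C : Crv k X) [DecidableEq ι] {L : ι → X.Modules} (hL : ∀ i, FlatMod.IsFinLocFree (L i))
    (hr : ∀ i, rk (L i) = 1) (hd : ∀ i, dg k (L i) = 0) (s : Finset ι) :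
    ∀ {V : X.Modules} (_ : FlatMod.IsFinLocFree V) (p : ∀ i, V ⟶ L i) (_ : JM s p), dg k V ≤ 0 := by
  induction s using Finset.induction_on with
  | empty =>
    intro V hV p h
    have h0 := h V (𝟙 V) inferInstance hV (fun i hi => absurd hi (Finset.notMem_empty i))
    rw [dg_of_isZero h0]
  | insert a s ha ih =>
    intro V hV p h
    obtain ⟨I, e, m, he, hm, hem, hI, e1, e2, -⟩ := exists_factor C (p a) (coh_of_vb hV) (coh_of_vb (hL a))
    have vI := vb_of_mono C m hI (hL a)
    have vK := vb_kernel C (p a) hV (coh_of_vb (hL a))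
    have h1 := ih vK _ h.kernel
    have h2 : dg k I ≤ 0 := by
      rcases Nat.eq_zero_or_pos (rk I) with h3 | h3
      · rw [dg_of_vb_of_rk_eq_zero C vI h3]
      · have := dg_le_of_mono C m hI (coh_of_vb (hL a)) (by rw [hr]; exact h3)
        rwa [hd] at this
    linarith

/-- **Rank bound**: a bundle of degree at least zero jointly embedded in pairwise non-isomorphic invertible modules of
degree zero by nonzero maps has rank at least their number. -/
theorem card_le_rk (C : Crv k X) [DecidableEq ι] {L : ι → X.Modules} (hL : ∀ i, FlatMod.IsFinLocFree (L i))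
    (hr : ∀ i, rk (L i) = 1) (hd : ∀ i, dg k (L i) = 0) (s : Finset ι)
    (hiso : ∀ i ∈ s, ∀ j ∈ s, Nonempty (L i ≅ L j) → i = j) :
    ∀ {V : X.Modules} (_ : FlatMod.IsFinLocFree V) (p : ∀ i, V ⟶ L i) (_ : ∀ i ∈ s, p i ≠ 0) (_ : JM s p)
      (_ : 0 ≤ dg k V), s.card ≤ rk V := by
  induction s using Finset.induction_on with
  | empty =>
    intro V hV p _ h _
    simp
  | insert a s ha ih =>
    intro V hV p hp h h0
    obtain ⟨I, e, m, he, hm, hem, vI, hpos, e1, e2, e3, e4⟩ :=
      exists_factor_pos C (p a) (hp a (Finset.mem_insert_self a s)) (coh_of_vb hV) (hL a)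
    have vK := vb_kernel C (p a) hV (coh_of_vb (hL a))
    have h1 := dg_le C hL hr hd s vK _ h.kernel
    have h2 := dg_le_of_mono C m (coh_of_vb vI) (coh_of_vb (hL a)) (by rw [hr]; exact hpos)
    rw [hd] at h2
    have rI : rk I = 1 := by
      rw [hr] at e3
      omega
    have dI : dg k I = 0 := by linarith
    have hiso' : IsIso m := isIso_of_mono C m (coh_of_vb vI) (coh_of_vb (hL a)) (by rw [hr]; exact hpos)
      (by rw [hd, dI])
    have h3 := ih (fun i hi j hj => hiso i (Finset.mem_insert_of_mem hi) j (Finset.mem_insert_of_mem hj)) vK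
      (fun i => kernel.ι (p a) ≫ p i) (fun i hi hz => ?_) h.kernel (by linarith)
    · rw [Finset.card_insert_of_notMem ha]
      omega
    -- `p i` factors through `I ≅ L a`
    have hz' : kernel.ι e ≫ p i = 0 := by
      have h5 : kernel.ι e ≫ p a = 0 := by rw [← hem, kernel.condition_assoc, zero_comp]
      rw [← kernel.lift_ι (p a) (kernel.ι e) h5, Category.assoc, hz, comp_zero]
    obtain ⟨t, ht⟩ : ∃ t : I ⟶ L i, e ≫ t = p i :=
      ⟨(kernel_shortExact e).exact.desc (p i) hz', (kernel_shortExact e).exact.g_desc (p i) hz'⟩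
    have ht0 : t ≠ 0 := by
      rintro rfl
      rw [comp_zero] at ht
      exact hp i (Finset.mem_insert_of_mem hi) ht.symm
    have hti := (st_of_rk_one (k := k) rI).isIso_of_ne_zero C vI (st_of_rk_one (k := k) (hr i)) (hL i)
      (by rw [hd, dI]; simp) t ht0
    have := hiso a (Finset.mem_insert_self a s) i (Finset.mem_insert_of_mem hi)
      ⟨(asIso m).symm ≪≫ asIso t⟩
    subst this
    exact ha hi

end K705.SumInv
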