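import Groth.Agent.VBCurve.K705.DescSub
import Groth.Agent.VBCurve.K705.SumInv

/-!
# The conjugates of `f^* F → L` are jointly injective for `F ⊂ f_* L` (helper705)
-/

set_option autoImplicit false
universe u

open CategoryTheory CategoryTheory.Limits AlgebraicGeometry TopologicalSpace Opposite

namespace K705.JointMono

open Groth.Agent Groth.Agent.Fdesc.PullbackStalk Groth.Agent.Fdesc.LocGen Groth.Agent.CycB.StalkExact
open Groth.Agent.VarietyA.DegRank K707.Base K707.Deg K707.Slope K707.Semi K707.TensL K705.Cov K705.GenGal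
open K705.DescSub K705.SumInv

variable {k : Type u} [Field k] {X Y : Scheme.{u}} [X.Over (Spec (CommRingCat.of k))]
  [Y.Over (Spec (CommRingCat.of k))] [IsIntegral X] [IsProper (X ↘ (Spec (CommRingCat.of k)))]
  [IsIntegral Y] [IsProper (Y ↘ (Spec (CommRingCat.of k)))] {f : X ⟶ Y} {n : ℕ}

/-- `Sg σ ∘ Sg σ' = Sg (σ ≫ σ')` -/
theorem Sg_Sg {f : X ⟶ Y} {σ σ' σ'' : X ⟶ X} (h : σ ≫ σ' = σ'') (hσ : σ ≫ f = f) (hσ' : σ' ≫ f = f)
    (hσ'' : σ'' ≫ f = f) {η : X} (hη : σ.base η = η) (hη' : σ'.base η = η) (hη'' : σ''.base η = η) {E : Y.Modules}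
    (w : ((Scheme.Modules.pullback f).obj E).presheaf.stalk η) :
    Sg σ hη (lam hσ E) (Sg σ' hη' (lam hσ' E) w) = Sg σ'' hη'' (lam hσ'' E) w := by
  have htau : ∀ a : X.presheaf.stalk η, tau σ hη (tau σ' hη' a) = tau σ'' hη'' a := by
    intro a
    subst h
    obtain ⟨U, hU, r, rfl⟩ := X.presheaf.exists_germ_eq a
    refine (congrArg (tau σ hη) (tau_germ σ' hη' U hU r)).trans ?_
    refine (tau_germ σ hη (σ' ⁻¹ᵁ U) (mem_pre σ' hη' hU) _).trans ?_
    refine Eq.trans ?_ (tau_germ (σ ≫ σ') hη'' U hU r).symm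
    rw [Scheme.Hom.comp_app]
    rfl
  have hw : w ∈ Submodule.span (X.presheaf.stalk η) (Set.range (canAdd f E η)) := by
    rw [span_range_canAdd]; trivial
  rw [Finsupp.mem_span_range_iff_exists_finsupp] at hw
  obtain ⟨x, rfl⟩ := hw
  rw [Finsupp.sum, map_sum, map_sum, map_sum]
  refine Finset.sum_congr rfl fun v _ => ?_
  rw [Sg_smul, Sg_lam_canAdd, Sg_smul, Sg_lam_canAdd, Sg_smul, Sg_lam_canAdd, htau]

variable {ι : Type*} {σ : ι → (X ⟶ X)} (hσ : ∀ a, σ a ≫ f = f)
  (hη : ∀ a, (σ a).base (genericPoint X) = genericPoint X)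

/-- The conjugate of `p : f^* F → L`. -/
noncomputable def conj {F : Y.Modules} {L : X.Modules} (p : (Scheme.Modules.pullback f).obj F ⟶ L) (a : ι) :
    (Scheme.Modules.pullback f).obj F ⟶ (Scheme.Modules.pushforward (σ a)).obj L :=
  (Scheme.Modules.pullbackPushforwardAdjunction (σ a)).homEquiv _ _ (lam (hσ a) F ≫ p)

theorem conj_ne_zero {F : Y.Modules} {L : X.Modules} {p : (Scheme.Modules.pullback f).obj F ⟶ L} (hp : p ≠ 0)
    (a : ι) : conj hσ p a ≠ 0 := by
  intro h
  apply hp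
  have h1 : lam (hσ a) F ≫ p = 0 := by
    apply ((Scheme.Modules.pullbackPushforwardAdjunction (σ a)).homEquiv _ _).injective
    refine Eq.trans h ?_
    rw [Adjunction.homEquiv_unit, Functor.map_zero, comp_zero]
  have h2 : IsIso (lam (hσ a) F) := by
    unfold lam
    infer_instance
  rw [← cancel_epi (lam (hσ a) F), h1, comp_zero]

include hη in
/-- **Joint injectivity.** -/
theorem jm (h : IsCov k f n) [Fintype ι] [DecidableEq ι] (hinj : Function.Injective σ)
    (hcard : Fintype.card ι = n) {i₀ : ι} (h₀ : σ i₀ = 𝟙 X) (hmul : ∀ a b, ∃ c, σ a ≫ σ b = σ c)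
    {F : Y.Modules} {L : X.Modules} (hL : FlatMod.IsFinLocFree L)
    (i : F ⟶ (Scheme.Modules.pushforward f).obj L) [Mono i] :
    JM Finset.univ (conj hσ (((Scheme.Modules.pullbackPushforwardAdjunction f).homEquiv F L).symm i)) := by
  intro N j hj hN h0
  let p : (Scheme.Modules.pullback f).obj F ⟶ L :=
    ((Scheme.Modules.pullbackPushforwardAdjunction f).homEquiv F L).symm i
  have hpi : ∀ (U : Y.Opens) (s : Γ(F, U)), p.app (f ⁻¹ᵁ U) (pullSec f s) = i.app U s := by
    intro U s
    rw [← homEquiv_app, Equiv.apply_symm_apply]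
  let D : Submodule (X.presheaf.stalk (genericPoint X))
      (((Scheme.Modules.pullback f).obj F).presheaf.stalk (genericPoint X)) :=
    { carrier := {w | ∀ a, stalkLin p (genericPoint X) (Sg (σ a) (hη a) (lam (hσ a) F) w) = 0}
      add_mem' := fun {x y} hx hy a => by rw [map_add, map_add, hx a, hy a, add_zero]
      zero_mem' := fun a => by rw [map_zero, map_zero]
      smul_mem' := fun c x hx a => by rw [Sg_smul, map_smul, hx a, smul_zero] }
  have hD : ∀ b, b ≠ i₀ → ∀ w, w ∈ D → Sg (σ b) (hη b) (lam (hσ b) F) w ∈ D := by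
    intro b _ w hw a
    obtain ⟨c, hc⟩ := hmul a b
    rw [Sg_Sg hc (hσ a) (hσ b) (hσ c) (hη a) (hη b) (hη c)]
    exact hw c
  have hdesc := descent hσ hη h hinj hcard h₀ D hD
  have hD0 : D = ⊥ := by
    rw [hdesc, Submodule.span_eq_bot]
    rintro _ ⟨v, hv, rfl⟩
    obtain ⟨U, hU, s, rfl⟩ := F.presheaf.exists_germ_eq v
    have h1 : stalkLin p (genericPoint X) (Sg (σ i₀) (hη i₀) (lam (hσ i₀) F)
        (canAdd f F (genericPoint X) (F.presheaf.germ U (f.base (genericPoint X)) hU s))) = 0 := hv i₀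
    rw [Sg_lam_canAdd] at h1
    have h2 : stalkLin p (genericPoint X) (canAdd f F (genericPoint X)
        (F.presheaf.germ U (f.base (genericPoint X)) hU s)) =
        L.presheaf.germ (f ⁻¹ᵁ U) (genericPoint X) hU (i.app U s) := by
      refine (congrArg (stalkLin p (genericPoint X)) (canAdd_germ f F (genericPoint X) U hU s)).trans ?_
      refine (stalkLin_germ p (genericPoint X) hU _).trans ?_
      exact congrArg (L.presheaf.germ (f ⁻¹ᵁ U) (genericPoint X) hU) (hpi U s)
    have h3 : i.app U s = 0 :=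
      eq_zero_of_germ (X := X) (N := L) (coh_of_vb hL).1 (isTorsionFree_of_isFinLocFree hL) (U := f ⁻¹ᵁ U) _
        fun _ => h2.symm.trans h1
    have h4 : s = 0 := Smoothlim.ModKer.app_injective_of_mono i U (by rw [h3, map_zero])
    rw [h4]
    have h5 : F.presheaf.germ U (f.base (genericPoint X)) hU (0 : Γ(F, U)) = 0 := map_zero _
    exact (congrArg (canAdd f F (genericPoint X)) h5).trans (map_zero _)
  have hNη : ∀ x : N.presheaf.stalk (genericPoint X), stalkLin j (genericPoint X) x ∈ D := by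
    intro x a
    obtain ⟨V, hV, m, rfl⟩ := N.presheaf.exists_germ_eq x
    have h1 : (lam (hσ a) F ≫ p).app (σ a ⁻¹ᵁ V) (pullSec (σ a) (j.app V m)) = 0 := by
      rw [← homEquiv_app]
      have h2 := h0 a (Finset.mem_univ a)
      have h3 : (j ≫ conj hσ p a).app V m = (0 : N ⟶ _).app V m := by rw [h2]
      exact h3
    refine (congrArg (fun t => stalkLin p (genericPoint X) (Sg (σ a) (hη a) (lam (hσ a) F) t))
      (stalkLin_germ j (genericPoint X) hV m)).trans ?_
    refine (congrArg (stalkLin p (genericPoint X))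
      (Sg_germ (σ a) (hη a) (lam (hσ a) F) V hV (j.app V m))).trans ?_
    refine (stalkLin_germ p (genericPoint X) (mem_pre (σ a) (hη a) hV) _).trans ?_
    exact (congrArg (L.presheaf.germ (σ a ⁻¹ᵁ V) (genericPoint X) (mem_pre (σ a) (hη a) hV)) h1).trans
      (map_zero _)
  refine isZero_of_rk_eq_zero h.crvX hN (rk_eq_zero_of_subsingleton ⟨fun x y => ?_⟩)
  apply stalkLin_injective j (genericPoint X)
  have h1 := hNη x
  have h2 := hNη y
  rw [hD0, Submodule.mem_bot] at h1 h2
  rw [h1, h2]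

end K705.JointMono
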